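import Cfsg.Agent.J2Uniq57.Cent
import Cfsg.Agent.Lib.Steiner.Ico.Iso

/-!
A group of Hall-Janko type is the Hall-Janko group.
-/

set_option autoImplicit false

namespace Cfsg.Agent.J2Uniq57

open Cfsg.Agent.J2Order38 Cfsg.Agent.Steiner Cfsg.Agent.CosetEnum

universe u

/-- The five images. -/
def gens {G : Type*} (z b c d t : G) : J2.Gen → G
  | .a => z
  | .b => b
  | .c => c
  | .d => d
  | .e => t

theorem rels_small {A : Type} [Group A] (z b c d t : A)
    (zz : z * z = 1) (bb : b * b = 1) (cc : c * c = 1) (dd : d * d = 1) (tt : t * t = 1)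
    (zb : (z * b) ^ 5 = 1) (bc : (b * c) ^ 3 = 1) (cd : (c * d) ^ 4 = z) (dt : (d * t) ^ 3 = 1)
    (zc : Commute z c) (zd : Commute z d) (zt : Commute z t) (bd : Commute b d) (bt : Commute b t)
    (ct : Commute c t) (last : ((b * c * d * c * d) ^ 5 * t) ^ 3 = 1) :
    ∀ r ∈ Cfsg.Spor.coxRelators J2.pres.edges ∪ {r | r ∈ J2.pres.extra},
      FreeGroup.lift (gens z b c d t) r = 1 := by
  let v : J2.Gen → A := gens z b c d t
  refine J2.pres.kills v fun W hW => ?_
  rcases List.mem_append.mp hW with hW | hW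
  · simp only [coxWords, List.mem_flatMap, List.mem_filterMap, List.mem_range] at hW
    obtain ⟨i, hi, j, hj, hW⟩ := hW
    rw [List.getElem?_eq_getElem hi, List.getElem?_eq_getElem hj] at hW
    obtain rfl := Option.some.inj hW
    rw [evalWord_repWord_pair J2.pres.gens v _ hi hj]
    have comm2 : ∀ {p q : A}, p * p = 1 → q * q = 1 → Commute p q → (p * q) ^ 2 = 1 := by
      intro p q hp hq hpq
      rw [hpq.mul_pow, pow_two, pow_two, hp, hq, one_mul]
    have swap : ∀ {p q : A} {m : ℕ}, (p * q) ^ m = 1 → p * p = 1 → q * q = 1 → (q * p) ^ m = 1 := by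
      intro p q m h hp hq
      rw [show q * p = (p * q)⁻¹ by
        rw [mul_inv_rev, inv_eq_of_mul_eq_one_right hp, inv_eq_of_mul_eq_one_right hq], inv_pow, h,
        inv_one]
    have cd8 : (c * d) ^ 8 = 1 := by rw [show 8 = 4 * 2 from rfl, pow_mul, cd, pow_two, zz]
    have key2 : ∀ x y : J2.Gen,
        (v x * v y) ^ (Cfsg.Spor.coxLabel J2.pres.edges x y) = 1 := by
      intro x y
      cases x <;> cases y
      · exact (show (z * z) ^ 1 = 1 from (pow_one _).trans zz)
      · exact (show (z * b) ^ 5 = 1 from zb)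
      · exact (show (z * c) ^ 2 = 1 from comm2 zz cc zc)
      · exact (show (z * d) ^ 2 = 1 from comm2 zz dd zd)
      · exact (show (z * t) ^ 2 = 1 from comm2 zz tt zt)
      · exact (show (b * z) ^ 5 = 1 from swap zb zz bb)
      · exact (show (b * b) ^ 1 = 1 from (pow_one _).trans bb)
      · exact (show (b * c) ^ 3 = 1 from bc)
      · exact (show (b * d) ^ 2 = 1 from comm2 bb dd bd)
      · exact (show (b * t) ^ 2 = 1 from comm2 bb tt bt)
      · exact (show (c * z) ^ 2 = 1 from comm2 cc zz zc.symm)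
      · exact (show (c * b) ^ 3 = 1 from swap bc bb cc)
      · exact (show (c * c) ^ 1 = 1 from (pow_one _).trans cc)
      · exact (show (c * d) ^ 8 = 1 from cd8)
      · exact (show (c * t) ^ 2 = 1 from comm2 cc tt ct)
      · exact (show (d * z) ^ 2 = 1 from comm2 dd zz zd.symm)
      · exact (show (d * b) ^ 2 = 1 from comm2 dd bb bd.symm)
      · exact (show (d * c) ^ 8 = 1 from swap cd8 cc dd)
      · exact (show (d * d) ^ 1 = 1 from (pow_one _).trans dd)
      · exact (show (d * t) ^ 3 = 1 from dt)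
      · exact (show (t * z) ^ 2 = 1 from comm2 tt zz zt.symm)
      · exact (show (t * b) ^ 2 = 1 from comm2 tt bb bt.symm)
      · exact (show (t * c) ^ 2 = 1 from comm2 tt cc ct.symm)
      · exact (show (t * d) ^ 3 = 1 from swap dt dd tt)
      · exact (show (t * t) ^ 1 = 1 from (pow_one _).trans tt)
    exact key2 _ _
  · have h0 : letterVal J2.pres.gens v 0 = z := rfl
    have h1 : letterVal J2.pres.gens v 1 = b := rfl
    have h2 : letterVal J2.pres.gens v 2 = c := rfl
    have h3 : letterVal J2.pres.gens v 3 = d := rfl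
    have h4 : letterVal J2.pres.gens v 4 = t := rfl
    have hz : z * (c * d) ^ 4 = 1 := by rw [cd, zz]
    simp only [J2.pres, J2.extraWords, List.mem_cons, List.not_mem_nil, or_false] at hW
    rcases hW with rfl | rfl
    · have hdc : (d * c) ^ 4 = z := by
        rw [show d * c = (c * d)⁻¹ by
          rw [mul_inv_rev, inv_eq_of_mul_eq_one_right cc, inv_eq_of_mul_eq_one_right dd],
          inv_pow, cd, inv_eq_of_mul_eq_one_right zz]
      simp only [evalWord, J2.pres] at h0 h2 h3 ⊢
      simp only [h0, h2, h3, mul_one]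
      calc z * (d * (c * (d * (c * (d * (c * (d * c)))))))
          = z * (d * c) ^ 4 := by simp only [pow_succ, pow_zero, one_mul, mul_assoc]
        _ = 1 := by rw [hdc, zz]
    · simp only [J2.pres] at h1 h2 h3 h4 ⊢
      simp only [evalWord_repWord, evalWord_append, evalWord, h1, h2, h3, h4, mul_one]
      simpa only [mul_assoc] using last

theorem nonempty_hom {G : Type u} [Group G] [Finite G] (z b c d t : G)
    (zz : z * z = 1) (bb : b * b = 1) (cc : c * c = 1) (dd : d * d = 1) (tt : t * t = 1)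
    (zb : (z * b) ^ 5 = 1) (bc : (b * c) ^ 3 = 1) (cd : (c * d) ^ 4 = z) (dt : (d * t) ^ 3 = 1)
    (zc : Commute z c) (zd : Commute z d) (zt : Commute z t) (bd : Commute b d) (bt : Commute b t)
    (ct : Commute c t) (last : ((b * c * d * c * d) ^ 5 * t) ^ 3 = 1) :
    ∃ φ : J2.pres.Gp →* G, φ (PresentedGroup.of .a) = z := by
  classical
  -- a copy in a universe of small types
  obtain ⟨n, ⟨e⟩⟩ := Finite.exists_equiv_fin G
  let ι : G →* Equiv.Perm (Fin n) := e.permCongrHom.toMonoidHom.comp (MulAction.toPermHom G G)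
  have hι : Function.Injective ι := fun g g' h => by
    have h' : MulAction.toPermHom G G g = MulAction.toPermHom G G g' := e.permCongrHom.injective h
    simpa using congrArg (fun p : Equiv.Perm G => p 1) h'
  have hw := rels_small (ι z) (ι b) (ι c) (ι d) (ι t)
    (by rw [← map_mul, zz, map_one]) (by rw [← map_mul, bb, map_one])
    (by rw [← map_mul, cc, map_one]) (by rw [← map_mul, dd, map_one])
    (by rw [← map_mul, tt, map_one]) (by rw [← map_mul, ← map_pow, zb, map_one])
    (by rw [← map_mul, ← map_pow, bc, map_one]) (by rw [← map_mul, ← map_pow, cd])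
    (by rw [← map_mul, ← map_pow, dt, map_one]) (zc.map ι) (zd.map ι) (zt.map ι) (bd.map ι)
    (bt.map ι) (ct.map ι)
    (by simp only [← map_mul, ← map_pow, last, map_one])
  have hv : ∀ r ∈ Cfsg.Spor.coxRelators J2.pres.edges ∪ {r | r ∈ J2.pres.extra},
      FreeGroup.lift (gens z b c d t) r = 1 := by
    intro r hr
    have h1 := hw r hr
    have h2 : FreeGroup.lift (gens (ι z) (ι b) (ι c) (ι d) (ι t)) =
        ι.comp (FreeGroup.lift (gens z b c d t)) := by
      ext x; cases x <;> simp [gens]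
    rw [h2, MonoidHom.comp_apply] at h1
    exact (map_eq_one_iff ι hι).mp h1
  exact ⟨PresentedGroup.toGroup hv, PresentedGroup.toGroup.of hv⟩

theorem isoJ2 {G : Type*} [Group G] [Finite G] {z : G} {Q : Subgroup G} (h : HJ z Q)
    (hcl : ∃ x y : G, orderOf x = 2 ∧ orderOf y = 2 ∧ ¬ IsConj x y) : Cfsg.Spor.IsoJ2 G := by
  obtain ⟨t, D⟩ := h.exists_hjg hcl
  obtain ⟨M, L, ψ, x, d, K⟩ := exists_config D
  obtain ⟨V, T, N⟩ := K.split
  obtain ⟨g00, g11, g22, g02, g12, g01, -⟩ := Small.gen_facts
  have hM : ∀ a, ψ a ∈ M := fun a => K.range ▸ ⟨a, rfl⟩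
  have htM : ∀ a, Commute (ψ a) t := fun a => (N.comm t (N.V_le T.mem_V) _ (hM a)).symm
  have hzc : Commute (ψ (Closure.gen 0)) (ψ (Closure.gen 2)) := by
    show _ * _ = _ * _
    rw [← map_mul, ← map_mul, g02]
  have hd4 := K.d_c
  have hdz := K.d_z
  have hlast := K.three
  rw [← K.psi_z] at hd4 hdz
  obtain ⟨φ, hφ⟩ := nonempty_hom (ψ (Closure.gen 0)) (ψ (Closure.gen 1)) (ψ (Closure.gen 2)) d t
    (by rw [← map_mul, g00, map_one]) (by rw [← map_mul, g11, map_one])
    (by rw [← map_mul, g22, map_one]) K.d_sq D.pair.outer.sq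
    (by rw [← map_mul, ← map_pow, g01, map_one]) (by rw [← map_mul, ← map_pow, g12, map_one])
    hd4 K.d_t hzc hdz.symm (htM _) K.d_b.symm (htM _) (htM _) hlast
  haveI := Steiner.J2.simple
  haveI := Steiner.J2.finite
  have hinj : Function.Injective φ := by
    rw [← MonoidHom.ker_eq_bot_iff]
    refine φ.normal_ker.eq_bot_or_eq_top.resolve_right fun e => h.z_ne ?_
    rw [← K.psi_z, ← hφ, ← MonoidHom.mem_ker, e]
    exact Subgroup.mem_top _
  have hbij : Function.Bijective φ := hinj.bijective_of_nat_card_le (by rw [D.card, Steiner.J2.card_eq.1])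
  exact ⟨(MulEquiv.ofBijective φ hbij).symm.trans Steiner.Ico.presEquiv⟩

end Cfsg.Agent.J2Uniq57
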