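import Cfsg.Agent.J2Uniq57.Nwc
import Cfsg.Agent.J2Uniq57.Main
import Cfsg.Agent.Lib.LargeExtraspecial.Pullback
import Cfsg.Prelude.Def_Transfer

/-!
The hypothesis on the centralizer in the form of the statements.
-/

set_option autoImplicit false

namespace Cfsg.Agent.J2Uniq57

open Cfsg.Agent.J2Order38

theorem pre_of_centralizer {G : Type*} [Group G] [Finite G] (t : G) (ht : orderOf t = 2)
    (Q : Subgroup (Subgroup.centralizer ({t} : Set G))) [Q.Normal] (hQ : Cfsg.IsExtraspecial 2 Q)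
    (hcard : Nat.card Q = 32)
    (hminus : ∀ E : Subgroup Q, Cfsg.IsElementaryAbelian 2 E → Nat.card E ≤ 2 ^ 2)
    (h2c : Subgroup.centralizer (Q : Set (Subgroup.centralizer ({t} : Set G))) ≤ Q)
    (e : (Subgroup.centralizer ({t} : Set G)) ⧸ Q ≃* alternatingGroup (Fin 5)) :
    Pre t (Q.map (Subgroup.centralizer ({t} : Set G)).subtype) := by
  set Q0 := Q.map (Subgroup.centralizer ({t} : Set G)).subtype with hQ0
  have hmem : ∀ h : (Subgroup.centralizer ({t} : Set G)), (h : G) ∈ Q0 ↔ h ∈ Q := fun h =>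
    Subgroup.mem_map_iff_mem (Subgroup.centralizer ({t} : Set G)).subtype_injective
  have hle : Q0 ≤ (Subgroup.centralizer ({t} : Set G)) := Subgroup.map_subtype_le Q
  have hE : Cfsg.IsExtraspecial 2 ↥Q0 :=
    LargeExtraspecial.isExtraspecial_equiv (Q.equivMapOfInjective _ (Subgroup.centralizer ({t} : Set G)).subtype_injective) hQ
  set tC : (Subgroup.centralizer ({t} : Set G)) := ⟨t, Subgroup.mem_centralizer_singleton_iff.mpr rfl⟩ with htC
  have htQ : tC ∈ Q := h2c (Subgroup.mem_centralizer_iff.mpr fun y _ =>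
    Subtype.ext (Subgroup.mem_centralizer_singleton_iff.mp y.2))
  have htQ0 : t ∈ Q0 := (hmem tC).mpr htQ
  have hcen : (Subgroup.center Q0).map Q0.subtype = Subgroup.zpowers t := by
    symm
    refine Subgroup.eq_of_le_of_card_ge (Subgroup.zpowers_le.2 ⟨⟨t, htQ0⟩, ?_, rfl⟩) ?_
    · exact Subgroup.mem_center_iff.mpr fun y =>
        Subtype.ext (Subgroup.mem_centralizer_singleton_iff.mp (hle y.2))
    · rw [Subgroup.card_map_of_injective Q0.subtype_injective, hE.2, Nat.card_zpowers, ht]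
  refine ⟨⟨hE, hcen, le_antisymm ?_ ?_, ?_⟩, ?_, ?_, ?_⟩
  · intro x hx
    rw [Subgroup.mem_centralizer_iff] at hx
    have hxC : x ∈ (Subgroup.centralizer ({t} : Set G)) := Subgroup.mem_centralizer_singleton_iff.mpr (hx t htQ0).symm
    have hxQ : x ∈ Q0 := (hmem ⟨x, hxC⟩).mpr (h2c (Subgroup.mem_centralizer_iff.mpr fun y hy =>
      Subtype.ext (hx y ((hmem y).mpr hy))))
    rw [← hcen]
    exact ⟨⟨x, hxQ⟩, Subgroup.mem_center_iff.mpr fun y => Subtype.ext (hx y y.2), rfl⟩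
  · exact Subgroup.zpowers_le.mpr (Subgroup.mem_centralizer_iff.mpr fun y hy =>
      Subgroup.mem_centralizer_singleton_iff.mp (hle hy))
  · intro c hc
    rw [Subgroup.mem_normalizer_iff]
    have key : ∀ a ∈ (Subgroup.centralizer ({t} : Set G)), ∀ q ∈ Q0, a * q * a⁻¹ ∈ Q0 := by
      rintro a ha _ ⟨q, hq, rfl⟩
      exact ⟨⟨a, ha⟩ * q * ⟨a, ha⟩⁻¹, (inferInstance : Q.Normal).conj_mem q hq _, rfl⟩
    refine fun q => ⟨key c hc q, fun hq => ?_⟩
    have := key c⁻¹ (inv_mem hc) _ hq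
    simpa [mul_assoc] using this
  · rw [hQ0, Subgroup.card_map_of_injective (Subgroup.centralizer ({t} : Set G)).subtype_injective, hcard]
  · refine ⟨e.toMonoidHom.comp (QuotientGroup.mk' Q),
      e.surjective.comp (QuotientGroup.mk'_surjective Q), fun h => ?_⟩
    rw [hmem, MonoidHom.comp_apply, MulEquiv.coe_toMonoidHom, MulEquiv.map_eq_one_iff,
      QuotientGroup.mk'_apply, QuotientGroup.eq_one_iff]
  · intro E hEle hsq
    set E' : Subgroup Q := E.comap ((Subgroup.centralizer ({t} : Set G)).subtype.comp Q.subtype) with hE'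
    have hsq' : ∀ a ∈ E', a * a = 1 := fun a ha =>
      Subtype.ext (Subtype.ext (hsq _ ha))
    have hel : Cfsg.IsElementaryAbelian 2 E' := by
      refine ⟨⟨⟨fun a b => Subtype.ext ?_⟩⟩, fun a ha => by rw [pow_two]; exact hsq' a ha⟩
      have hi : ∀ v ∈ E', v⁻¹ = v := fun v hv => inv_eq_of_mul_eq_one_right (hsq' v hv)
      show (a : Q) * b = b * a
      rw [← hi _ (mul_mem a.2 b.2), mul_inv_rev, hi _ a.2, hi _ b.2]
    refine le_of_eq_of_le ?_ (hminus E' hel)
    rw [hE']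
    refine (Nat.card_congr (Equiv.ofBijective (fun v : ↥(E.comap ((Subgroup.centralizer ({t} : Set G)).subtype.comp Q.subtype)) => (⟨(((v : Q) : (Subgroup.centralizer ({t} : Set G))) : G), v.2⟩ : E)) ⟨?_, ?_⟩)).symm
    · intro a b h
      exact Subtype.ext (Subtype.ext (Subtype.ext (congrArg (fun w : E => (w : G)) h)))
    · rintro ⟨g, hg⟩
      obtain ⟨q, hq, rfl⟩ := hEle hg
      exact ⟨⟨⟨q, hq⟩, hg⟩, rfl⟩

theorem isoJ2_of_centralizer {G : Type*} [Group G] [Finite G] [IsSimpleGroup G] (t : G)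
    (ht : orderOf t = 2) (Q : Subgroup (Subgroup.centralizer ({t} : Set G))) [Q.Normal]
    (hQ : Cfsg.IsExtraspecial 2 Q) (hcard : Nat.card Q = 32)
    (hminus : ∀ E : Subgroup Q, Cfsg.IsElementaryAbelian 2 E → Nat.card E ≤ 2 ^ 2)
    (h2c : Subgroup.centralizer (Q : Set (Subgroup.centralizer ({t} : Set G))) ≤ Q)
    (e : (Subgroup.centralizer ({t} : Set G)) ⧸ Q ≃* alternatingGroup (Fin 5))
    (htwo : ∃ x y : G, orderOf x = 2 ∧ orderOf y = 2 ∧ ¬ IsConj x y) : Cfsg.Spor.IsoJ2 G :=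
  isoJ2 (pre_of_centralizer t ht Q hQ hcard hminus h2c e).hj htwo

end Cfsg.Agent.J2Uniq57
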