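import Cfsg.Agent.J2Uniq57.Construct

/-!
The centralizer of a three-element and the last relation.
-/

set_option autoImplicit false

namespace Cfsg.Agent.J2Uniq57

open Cfsg.Agent.J2Order38

theorem rel_u {X : Type*} [Group X] {b c f z : X} (hb : b * b = 1) (hc : c * c = 1) (hf : f * f = 1)
    (hz : z * z = 1) (hfb : f * b * f = b * f * b) (hfc : f * c * f = c * z)
    (hbc : c * b * c = b * c * b) (h5 : (b * c * f) ^ 5 = 1) :
    f * (b * c * z * b * c) * f = c * b * z * b * f * (c * b * c) := by
  have hbi : b⁻¹ = b := inv_eq_of_mul_eq_one_right hb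
  have hci : c⁻¹ = c := inv_eq_of_mul_eq_one_right hc
  have hfi : f⁻¹ = f := inv_eq_of_mul_eq_one_right hf
  set h := b * c * f with hh
  have hinv : h⁻¹ = f * c * b := by rw [hh, mul_inv_rev, mul_inv_rev, hbi, hci, hfi, mul_assoc]
  have e1 : h ^ 3 = h⁻¹ ^ 2 := by
    rw [inv_pow, eq_inv_iff_mul_eq_one, ← pow_add, h5]
  -- the square
  have e2 : h * h = b * c * b * f * b * c * z := by
    calc h * h = b * c * ((f * b * f) * (f * c * f)) := by
          rw [hh]
          calc b * c * f * (b * c * f) = b * c * (f * b * (f * f) * c * f) := by rw [hf]; group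
            _ = _ := by group
      _ = _ := by rw [hfb, hfc]; group
  have e3 : h ^ 3 = b * c * b * (f * (b * c * z * b * c) * f) := by
    rw [pow_succ, pow_two, e2, hh]; group
  have e4 : h⁻¹ ^ 2 = c * z * b * f * b * c * b := by
    rw [hinv, pow_two]
    calc f * c * b * (f * c * b) = f * c * (f * f) * b * f * c * b := by rw [hf]; group
      _ = (f * c * f) * (f * b * f) * c * b := by group
      _ = _ := by rw [hfc, hfb]; group
  rw [e3, e4] at e1
  calc f * (b * c * z * b * c) * f
      = (b * c * b)⁻¹ * (b * c * b * (f * (b * c * z * b * c) * f)) := by group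
    _ = (b * c * b) * (c * z * b * f * b * c * b) := by rw [e1, mul_inv_rev, mul_inv_rev, hbi, hci]; group
    _ = (c * b * c) * (c * z * b * f) * (b * c * b) := by rw [hbc]; group
    _ = c * b * (c * c) * z * b * f * (c * b * c) := by rw [← hbc]; group
    _ = _ := by rw [hc]; group

variable {G : Type*} [Group G] [Finite G] {z t x d : G} {Q M L : Subgroup G}
  {ψ : alternatingGroup (Fin 5) →* G}

theorem Config.three (K : Config z t Q M L ψ x d) :
    ((ψ (Closure.gen 1) * ψ (Closure.gen 2) * d * ψ (Closure.gen 2) * d) ^ 5 * t) ^ 3 = 1 := by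
  classical
  have D := K.hjg
  obtain ⟨V, T, N⟩ := K.split
  have h := D.pair.hj
  haveI := fact_three
  haveI : Fact (Nat.Prime 5) := ⟨Nat.prime_five⟩
  obtain ⟨g00, g11, g22, g02, g12, g01, n0, n1, n2, n20, n01, gbcb, -⟩ := Small.gen_facts
  set b := ψ (Closure.gen 1) with hb
  set c := ψ (Closure.gen 2) with hc
  have hM : ∀ a, ψ a ∈ M := fun a => K.range ▸ ⟨a, rfl⟩
  set X := Subgroup.centralizer ({x} : Set G) with hX
  have toX : ∀ {y : G}, Commute x y → y ∈ X := fun hy =>
    Subgroup.mem_centralizer_singleton_iff.mpr hy.eq.symm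
  have hMX : ∀ a, ψ a ∈ X := fun a => toX (N.comm x K.x_mem (ψ a) (hM a))
  have hx3 : x ^ 3 = 1 := K.x_order ▸ pow_orderOf_eq_one x
  -- the order of the centralizer
  have hcX : Nat.card X = 1080 := by
    obtain ⟨p, q, -, -, -, hp, hq, hall⟩ := (D.threeResult).reps
    rcases hall x K.x_order with e | e <;> obtain ⟨g, rfl⟩ := isConj_iff.mp e.symm
    · rw [hX, card_cent_conj, hp]
    · exfalso
      have h5 : orderOf (⟨ψ (Closure.gen 0 * Closure.gen 1), hMX _⟩ : X) = 5 := by
        rw [Subgroup.orderOf_mk, orderOf_injective ψ K.inj]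
        exact orderOf_eq_prime g01 n01
      have := h5 ▸ orderOf_dvd_natCard (⟨ψ (Closure.gen 0 * Closure.gen 1), hMX _⟩ : X)
      rw [hX, card_cent_conj, hq] at this
      norm_num at this
  -- inside the centralizer
  let ψX : alternatingGroup (Fin 5) →* X := ψ.codRestrict X hMX
  have hψX : ∀ a, (ψX a : G) = ψ a := fun _ => rfl
  have hinjX : Function.Injective ψX := fun a b e => K.inj (congrArg Subtype.val e)
  set xX : X := ⟨x, toX (Commute.refl x)⟩ with hxX
  set R : Subgroup X := Subgroup.zpowers xX with hR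
  have hxc : ∀ y : X, Commute xX y := fun y =>
    Subtype.ext (Subgroup.mem_centralizer_singleton_iff.mp y.2).symm
  have hRc : ∀ r ∈ R, ∀ y : X, Commute r y := by
    intro r hr y
    obtain ⟨i, rfl⟩ := Subgroup.mem_zpowers_iff.mp hr
    exact (hxc y).zpow_left i
  haveI hRn : R.Normal := ⟨fun r hr y => by
    rw [← (hRc r hr y).eq, mul_inv_cancel_right]; exact hr⟩
  have hR3 : Nat.card R = 3 := by
    rw [hR, Nat.card_zpowers, hxX, Subgroup.orderOf_mk, K.x_order]
  have hRr : ∀ a, ψX a ∈ R → a = 1 := by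
    intro a ha
    obtain ⟨i, hi⟩ := Subgroup.mem_zpowers_iff.mp ha
    have hi' : x ^ i = ψ a := congrArg Subtype.val hi
    have : ψ a ∈ L ⊓ M := Subgroup.mem_inf.mpr ⟨hi' ▸ L.zpow_mem K.x_mem i, hM a⟩
    rw [N.inf, Subgroup.mem_bot] at this
    exact K.inj (this.trans (map_one ψ).symm)
  have hRinf : ∀ H : Subgroup X, H ≤ ψX.range → H ⊓ R = ⊥ := by
    intro H hH
    rw [Subgroup.eq_bot_iff_forall]
    intro y hy
    obtain ⟨a, rfl⟩ := hH hy.1
    rw [hRr a hy.2, map_one]
  have hMc : Nat.card ψX.range = 60 := by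
    rw [Nat.card_congr (MonoidHom.ofInjective hinjX).symm.toEquiv, J2Order38.A5.card_eq]
  set K1 : Subgroup X := ψX.range ⊔ R with hK1
  have hK1c : Nat.card K1 = 180 := by
    obtain ⟨e⟩ := prod_nonempty_equiv (A := ψX.range) (B := R) (fun a _ r hr => (hRc r hr a).symm)
      (hRinf _ le_rfl)
    rw [hK1, ← Nat.card_congr e.toEquiv, Nat.card_prod, hMc, hR3]
  have hK1m : ∀ y ∈ K1, y * y = 1 → y ∈ ψX.range := by
    intro y hy hy2
    obtain ⟨m, hm, r, hr, rfl⟩ := Subgroup.mem_sup_of_normal_right.mp hy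
    obtain ⟨a, rfl⟩ := hm
    have hr2 : ψX (a * a) = (r * r)⁻¹ := by
      rw [map_mul, eq_inv_iff_mul_eq_one]
      rw [(hRc r hr (ψX a)).mul_mul_mul_comm] at hy2
      exact hy2
    have hrr : r * r = 1 := by
      have := hRr (a * a) (hr2 ▸ inv_mem (mul_mem hr hr))
      rw [this, map_one, eq_comm, inv_eq_one] at hr2
      exact hr2
    have hr3 : r ^ 3 = 1 := pow_mem_zpowers_three hr (Subtype.ext hx3)
    have : r = 1 := by
      calc r = r ^ 3 * (r * r)⁻¹ := by group
        _ = 1 := by rw [hr3, hrr]; group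
    exact ⟨a, by rw [this, mul_one]⟩
  -- the involution `f`
  have hcx : Commute c x := (N.comm x K.x_mem c (hM _)).symm
  have hdi : d⁻¹ = d := inv_eq_of_mul_eq_one_right K.d_sq
  have hc2 : c * c = 1 := by rw [hc, ← map_mul, g22, map_one]
  have hb2 : b * b = 1 := by rw [hb, ← map_mul, g11, map_one]
  have hzz := h.z_sq
  have hbcb : c * b * c = b * c * b := by rw [hb, hc, ← map_mul, ← map_mul, ← map_mul, ← map_mul, gbcb]
  set f := d * c * d with hf
  have hfx : f * x = x * f := by
    have e : d * x * d = x⁻¹ := by have := K.d_x; rwa [hdi] at this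
    have e' : d * x⁻¹ * d = x := by
      rw [← e]
      calc d * (d * x * d) * d = (d * d) * x * (d * d) := by group
        _ = x := by rw [K.d_sq]; group
    calc f * x = d * c * d * x * (d * d) := by rw [K.d_sq, mul_one, hf]
      _ = d * c * (d * x * d) * d := by group
      _ = d * (c * x⁻¹) * d := by rw [e]; group
      _ = d * (x⁻¹ * c) * d := by rw [hcx.inv_right.eq]
      _ = (d * x⁻¹ * d) * (d⁻¹ * c * d) := by group
      _ = x * f := by rw [e', hdi, hf]
  have hff : f * f = 1 := by
    rw [hf]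
    calc d * c * d * (d * c * d) = d * c * (d * d) * c * d := by group
      _ = d * (c * c) * d := by rw [K.d_sq]; group
      _ = 1 := by rw [hc2, mul_one, K.d_sq]
  have hzc : Commute z c := by
    show _ * _ = _ * _
    rw [hc, ← K.psi_z, ← map_mul, ← map_mul, g02]
  have hfz : f * z * f = z := by
    have hcf : Commute f z := (K.d_z.mul_left hzc.symm).mul_left K.d_z
    rw [hcf.eq, mul_assoc, hff, mul_one]
  have hdb : Commute d b := K.d_b
  have hfb : f * b * f = b * f * b := by
    calc f * b * f = d * c * (d * b) * d * c * d := by rw [hf]; group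
      _ = d * c * b * (d * d) * c * d := by rw [hdb.eq]; group
      _ = d * (c * b * c) * d := by rw [K.d_sq]; group
      _ = (d * b) * c * (b * d) := by rw [hbcb]; group
      _ = (b * d) * c * (d * b) := by rw [hdb.eq]
      _ = b * f * b := by rw [hf]; group
  have hfc : f * c * f = c * z := by
    have e := K.d_c
    calc f * c * f = c⁻¹ * (c * d) ^ 4 := by
          rw [hf]; simp only [pow_succ, pow_zero, one_mul]; group
      _ = c * z := by rw [e, inv_eq_of_mul_eq_one_right hc2]
  set fX : X := ⟨f, toX hfx.symm⟩ with hfX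
  have hfX2 : fX * fX = 1 := Subtype.ext hff
  have hfn : fX ∉ ψX.range := by
    rintro ⟨a, ha⟩
    have ha' : ψ a = f := congrArg Subtype.val ha
    have ha0 : a * Closure.gen 0 = Closure.gen 0 * a := K.inj (by
      rw [map_mul, map_mul, ha', K.psi_z]
      calc f * z = f * z * (f * f) := by rw [hff, mul_one]
        _ = (f * z * f) * f := by group
        _ = z * f := by rw [hfz])
    have hac := J2Order38.A5.cent_comm g00 n0 ha0 g02.symm
    have hfc' : Commute f c := by
      show _ * _ = _ * _
      rw [← ha', hc, ← map_mul, ← map_mul, hac.eq]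
    rw [hfc'.eq, mul_assoc, hff, mul_one] at hfc
    exact h.z_ne (mul_eq_left.mp hfc.symm)
  have hfK : fX ∉ K1 := fun hm => hfn (hK1m _ hm hfX2)
  set bX : X := ψX (Closure.gen 1) with hbX
  have hfbf : fX * bX * fX = bX * fX * bX := Subtype.ext hfb
  have hbX2 : bX * bX = 1 := by rw [hbX, ← map_mul, g11, map_one]
  have hnot : ∀ H : Subgroup X, ψX.range ≤ H → H ≤ K1 → fX * bX * fX ∉ H := by
    intro H hle hle' hm
    have hm' := hK1m _ (hle' hm) (by
      calc fX * bX * fX * (fX * bX * fX) = fX * bX * (fX * fX) * bX * fX := by group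
        _ = fX * (bX * bX) * fX := by rw [hfX2]; group
        _ = 1 := by rw [hbX2, mul_one, hfX2])
    rw [hfbf] at hm'
    have hbm : bX ∈ ψX.range := ⟨_, rfl⟩
    refine hfn ?_
    have := mul_mem (mul_mem hbm hm') hbm
    rwa [show bX * (bX * fX * bX) * bX = (bX * bX) * fX * (bX * bX) by group, hbX2, one_mul,
      mul_one] at this
  -- the kernel of the action on the cosets
  have hcore : K1.normalCore = R := by
    refine le_antisymm ?_ (Subgroup.normal_le_normalCore.mpr le_sup_right)
    haveI : IsSimpleGroup (alternatingGroup (Fin 5)) := alternatingGroup.isSimpleGroup_five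
    rcases ((inferInstance : (K1.normalCore.comap ψX).Normal)).eq_bot_or_eq_top with e | e
    · intro n hn
      obtain ⟨m, hm, r, hr, rfl⟩ :=
        Subgroup.mem_sup_of_normal_right.mp (Subgroup.normalCore_le K1 hn)
      obtain ⟨a, rfl⟩ := hm
      have hr' : r ∈ K1.normalCore := (Subgroup.normal_le_normalCore.mpr (le_sup_right : R ≤ K1)) hr
      have ha : a ∈ K1.normalCore.comap ψX := by
        show ψX a ∈ K1.normalCore
        have := mul_mem hn (inv_mem hr')
        rwa [mul_inv_cancel_right] at this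
      rw [e, Subgroup.mem_bot] at ha
      rw [ha, map_one, one_mul]; exact hr
    · exfalso
      have hle : ψX.range ≤ K1.normalCore := by
        rintro _ ⟨a, rfl⟩
        exact (e ▸ Subgroup.mem_top a : a ∈ K1.normalCore.comap ψX)
      have hn : fX * bX * fX ∈ K1.normalCore := by
        have := Subgroup.normalCore_normal K1 |>.conj_mem bX (hle ⟨_, rfl⟩) fX
        rwa [inv_eq_of_mul_eq_one_right hfX2] at this
      exact hnot K1.normalCore hle (Subgroup.normalCore_le K1) hn
  have h6 : Nat.card (X ⧸ K1) = 6 := by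
    have := Subgroup.card_eq_card_quotient_mul_card_subgroup K1
    rw [hcX, hK1c] at this; omega
  let θ : X →* Equiv.Perm (Fin 6) := (Equiv.permCongrHom (Finite.equivFinOfCardEq h6)).toMonoidHom.comp
    (MulAction.toPermHom X (X ⧸ K1))
  have hθ : ∀ y, θ y = 1 ↔ y ∈ R := fun y => by
    rw [← hcore, Subgroup.normalCore_eq_ker, MonoidHom.mem_ker]
    exact map_eq_one_iff _ (Equiv.permCongrHom (Finite.equivFinOfCardEq h6)).injective
  have hθψ : ∀ a, a ≠ 1 → θ (ψX a) ≠ 1 := fun a ha e => ha (hRr a ((hθ _).mp e))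
  have hθi : ∀ {y : X}, y * y = 1 → θ y ≠ 1 → Small.Invol (θ y) := fun h1 h2 =>
    ⟨by rw [← map_mul, h1, map_one], h2⟩
  set zX : X := ψX (Closure.gen 0) with hzX
  set cX : X := ψX (Closure.gen 2) with hcX'
  have hzX' : (zX : G) = z := K.psi_z
  have hfzX : fX * zX * fX = zX := Subtype.ext (by
    show f * (zX : G) * f = zX; rw [hzX', hfz])
  have hfcX : fX * cX * fX = cX * zX := Subtype.ext (by
    show f * c * f = c * (zX : G); rw [hzX', hfc])
  have h5 : (bX * cX * fX) ^ 5 ∈ R := by
    rw [← hθ, map_pow, map_mul, map_mul]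
    refine Small.six (Z := θ zX) (hθi (by rw [hzX, ← map_mul, g00, map_one]) (hθψ _ n0))
      (hθi hbX2 (hθψ _ n1)) (hθi (by rw [hcX', ← map_mul, g22, map_one]) (hθψ _ n2))
      (hθi hfX2 fun e => hfK (le_sup_right (a := ψX.range) ((hθ _).mp e))) ?_ ?_ ?_ ?_ ?_ ?_ ?_ ?_
    · rw [← map_mul, ← map_pow, hzX, hbX, ← map_mul, ← map_pow, g01, map_one, map_one]
    · rw [← map_mul, hzX, hbX, ← map_mul]; exact hθψ _ n01
    · rw [← map_mul, ← map_mul, hzX, hcX', ← map_mul, ← map_mul, g02]
    · intro e
      rw [← mul_inv_eq_one, ← map_inv, ← map_mul, hzX, hcX', ← map_inv, ← map_mul] at e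
      exact hθψ _ (fun e' => n20 (mul_inv_eq_one.mp e')) e
    · rw [← map_mul, ← map_pow, hcX', hbX, ← map_mul, ← map_pow, g12, map_one, map_one]
    · rw [← map_mul, ← map_mul]
      congr 1
      calc fX * zX = fX * zX * (fX * fX) := by rw [hfX2, mul_one]
        _ = (fX * zX * fX) * fX := by group
        _ = zX * fX := by rw [hfzX]
    · rw [← map_mul, ← map_pow]
      congr 1
      calc (cX * fX) ^ 2 = cX * (fX * cX * fX) := by rw [pow_two]; group
        _ = zX := by rw [hfcX, ← mul_assoc, hcX', ← map_mul, g22, map_one, one_mul]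
    · rw [← map_mul, ← map_pow]
      rw [show θ ((bX * fX) ^ 3) = 1 ↔ (bX * fX) ^ 3 ∈ R from hθ _]
      rw [show (bX * fX) ^ 3 = (bX * fX * bX) * (fX * bX * fX) by
        simp only [pow_succ, pow_zero, one_mul]; group, hfbf,
        show bX * fX * bX * (bX * fX * bX) = bX * fX * (bX * bX) * fX * bX by group, hbX2, mul_one,
        mul_assoc bX fX fX, hfX2, mul_one, hbX2]
      exact one_mem R
  by_cases hne : (bX * cX * fX) ^ 5 = 1
  · exfalso
    have hrels : Closure.Rels ψX fX := by
      refine ⟨hfX2, hfzX, by rw [map_mul]; exact hfcX, hfbf, Subtype.ext ?_⟩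
      have h5' : (b * c * f) ^ 5 = 1 := congrArg Subtype.val hne
      have := rel_u hb2 hc2 hff hzz hfb hfc hbcb h5'
      simpa only [map_mul, Subgroup.coe_mul, hψX, K.psi_z] using this
    set H := hrels.group with hH
    have hHle : Nat.card H ≤ 360 := hrels.card_le
    have hr : ψX.range ≤ H := hrels.range_le
    have hbH : fX * bX * fX ∈ H := mul_mem (mul_mem hrels.f_mem (hr ⟨_, rfl⟩)) hrels.f_mem
    have hidx : ∀ A : Subgroup X, A ≤ H → ψX.range ≤ A → A ≤ K1 → Nat.card H ≠ 2 * Nat.card A := by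
      intro A hAH hMA hAK e
      have h2 : (A.subgroupOf H).index = 2 := by
        have := (A.subgroupOf H).card_mul_index
        rw [Nat.card_congr (Subgroup.subgroupOfEquivOfLe hAH).toEquiv, e] at this
        have hA : 0 < Nat.card A := Nat.card_pos
        nlinarith
      haveI := Subgroup.normal_of_index_eq_two h2
      have := (inferInstance : (A.subgroupOf H).Normal).conj_mem ⟨bX, hr ⟨_, rfl⟩⟩
        (show bX ∈ A from hMA ⟨_, rfl⟩) ⟨fX, hrels.f_mem⟩
      have hm : fX * bX * fX⁻¹ ∈ A := this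
      rw [inv_eq_of_mul_eq_one_right hfX2] at hm
      exact hnot A hMA hAK hm
    by_cases hRH : xX ∈ H
    · have hK1H : K1 ≤ H := sup_le hr (Subgroup.zpowers_le.mpr hRH)
      obtain ⟨k, hk⟩ := Subgroup.card_dvd_of_le hK1H
      rw [hK1c] at hk
      have hne2 := hidx K1 hK1H le_sup_left le_rfl
      rw [hK1c] at hne2
      have : k ≠ 1 := fun e => hfK (by
        rw [Subgroup.eq_of_le_of_card_ge hK1H (by rw [hk, e, hK1c])]; exact hrels.f_mem)
      have := (Nat.card_pos (α := H))
      omega
    · have hHR : H ⊓ R = ⊥ := by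
        rw [Subgroup.eq_bot_iff_forall]
        intro y hy
        obtain ⟨i, hi⟩ := Subgroup.mem_zpowers_iff.mp hy.2
        by_contra hy1
        refine hRH ?_
        have h3 : orderOf xX = 3 := by rw [hxX, Subgroup.orderOf_mk, K.x_order]
        have : Subgroup.zpowers y = R := by
          refine Subgroup.eq_of_le_of_card_ge (Subgroup.zpowers_le.mpr hy.2) ?_
          rw [hR3, Nat.card_zpowers]
          have hd : orderOf y ∣ 3 := hR3 ▸ (Subgroup.orderOf_mk y hy.2 ▸ orderOf_dvd_natCard (⟨y, hy.2⟩ : R))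
          rcases (Nat.dvd_prime Nat.prime_three).mp hd with e | e
          · exact absurd (orderOf_eq_one_iff.mp e) hy1
          · omega
        have hx' : xX ∈ Subgroup.zpowers y := this.symm ▸ Subgroup.mem_zpowers xX
        exact Subgroup.zpowers_le.mpr hy.1 hx'
      obtain ⟨e⟩ := prod_nonempty_equiv (A := H) (B := R) (fun a _ r hr => (hRc r hr a).symm) hHR
      have hd : Nat.card H * 3 ∣ 1080 := by
        rw [← hR3, ← Nat.card_prod, Nat.card_congr e.toEquiv, ← hcX]
        exact Subgroup.card_subgroup_dvd_card _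
      obtain ⟨k, hk⟩ := hMc ▸ Subgroup.card_dvd_of_le hr
      have hk1 : k ≠ 1 := fun e' => hfn (by
        rw [Subgroup.eq_of_le_of_card_ge hr (by rw [hk, e', hMc])]; exact hrels.f_mem)
      have hk2 : k ≠ 2 := fun e' => hidx ψX.range hr le_rfl le_sup_left (by rw [hk, e', hMc])
      have hk6 : k ∣ 6 := by
        rw [hk] at hd
        exact Nat.dvd_of_mul_dvd_mul_left (show 0 < 180 by norm_num)
          (show 180 * k ∣ 180 * 6 by rw [show 180 * k = 60 * k * 3 by ring]; exact hd)
      have h9 : 3 ^ 2 ∣ Nat.card H := by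
        have := Nat.le_of_dvd (by norm_num) hk6
        have hk0 : k ≠ 0 := fun e0 => by rw [e0] at hk; exact absurd hk (Nat.card_pos).ne'
        rw [hk]
        interval_cases k <;> revert hk6 <;> norm_num at *
      obtain ⟨P, hP⟩ := Sylow.exists_subgroup_card_pow_prime 3 h9
      have hPab := IsPGroup.isMulCommutative_of_card_eq_prime_sq (p := 3) (G := P) hP
      set P' : Subgroup X := P.map H.subtype with hP'
      have hP'c : Nat.card P' = 9 := by
        rw [hP', Subgroup.card_map_of_injective H.subtype_injective, hP]; rfl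
      have hP'ab : ∀ a ∈ P', ∀ a' ∈ P', Commute a a' := by
        rintro _ ⟨a, ha, rfl⟩ _ ⟨a', ha', rfl⟩
        have := hPab.is_comm.comm (⟨a, ha⟩ : P) ⟨a', ha'⟩
        exact congrArg (fun v : P => ((v : H) : X)) this
      have hP'R : P' ⊓ R = ⊥ := by
        refine le_bot_iff.mp (le_trans (inf_le_inf_right R ?_) (le_of_eq hHR))
        rw [hP']; exact Subgroup.map_subtype_le P
      obtain ⟨e'⟩ := prod_nonempty_equiv (A := P') (B := R) (fun a _ r hr => (hRc r hr a).symm) hP'R
      set E : Subgroup G := (P' ⊔ R).map X.subtype with hE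
      have hEc : Nat.card E = 27 := by
        rw [hE, Subgroup.card_map_of_injective X.subtype_injective, ← Nat.card_congr e'.toEquiv,
          Nat.card_prod, hP'c, hR3]
      have hEab : ∀ u ∈ E, ∀ v ∈ E, Commute u v := by
        rintro _ ⟨u, hu, rfl⟩ _ ⟨v, hv, rfl⟩
        obtain ⟨p, hp, r, hr, rfl⟩ := Subgroup.mem_sup_of_normal_right.mp hu
        obtain ⟨p', hp', r', hr', rfl⟩ := Subgroup.mem_sup_of_normal_right.mp hv
        refine Commute.map ?_ X.subtype
        exact ((hP'ab p hp p' hp').mul_right (hRc r' hr' p).symm).mul_left (hRc r hr _)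
      have hEp : IsPGroup 3 E := IsPGroup.of_card (n := 3) (by rw [hEc]; norm_num)
      obtain ⟨S, hS⟩ := hEp.exists_le_sylow
      have hSE : E = (S : Subgroup G) := Subgroup.eq_of_le_of_card_ge hS (by
        rw [(D.threeResult).card_sylow S, hEc])
      have hc3 : Nat.card (Subgroup.center (S : Subgroup G)) = 3 := ((D.threeResult).extraspecial S).2
      have htop : Subgroup.center (S : Subgroup G) = ⊤ := by
        refine (Subgroup.eq_top_iff' _).mpr fun u => Subgroup.mem_center_iff.mpr fun v => Subtype.ext ?_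
        have hmem : ∀ v : G, v ∈ (S : Subgroup G) → v ∈ E := fun v hv => by rw [hSE]; exact hv
        exact (hEab v (hmem v v.2) u (hmem u u.2)).eq
      rw [htop, Subgroup.card_top, (D.threeResult).card_sylow S] at hc3
      omega
  · -- the last relation
    set y := (b * c * d * c * d) ^ 5 with hy
    have hyX : y = (((bX * cX * fX) ^ 5 : X) : G) := by
      rw [hy, show b * c * d * c * d = b * c * f by rw [hf]; group]
      rfl
    obtain ⟨i, hi⟩ := Subgroup.mem_zpowers_iff.mp h5
    have hiy : x ^ i = y := hyX ▸ congrArg Subtype.val hi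
    have hyL : y ∈ L := hiy ▸ L.zpow_mem K.x_mem i
    have hy1 : y ≠ 1 := fun e => hne (Subtype.ext (hyX ▸ e))
    have hy3 : y ^ 3 = 1 := pow_mem_zpowers_three ⟨i, hiy⟩ hx3
    obtain ⟨φ⟩ := N.alt
    have htL : t ∈ L := N.V_le T.mem_V
    have ht2 : t * t = 1 := D.pair.outer.sq
    have := Small.four_three (φ ⟨y, hyL⟩)
      ⟨by rw [← map_pow, show (⟨y, hyL⟩ : L) ^ 3 = 1 from Subtype.ext hy3, map_one],
        fun e => hy1 (congrArg Subtype.val ((map_eq_one_iff φ φ.injective).mp e))⟩ (φ ⟨t, htL⟩)
      ⟨by rw [← map_mul, show (⟨t, htL⟩ : L) * ⟨t, htL⟩ = 1 from Subtype.ext ht2, map_one],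
        fun e => by
          have e' : t = 1 := congrArg Subtype.val ((map_eq_one_iff φ φ.injective).mp e)
          simpa [e'] using D.pair.outer.order⟩
    rw [← map_mul, ← map_pow, map_eq_one_iff φ φ.injective] at this
    exact congrArg Subtype.val this

end Cfsg.Agent.J2Uniq57
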