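import Cfsg.Agent.J2Order38.A5

/-!
The double coset closure: an involution `f` with the displayed relations to a copy of the alternating
group of degree five lies in a subgroup of order at most 360 containing both.
-/

set_option autoImplicit false

namespace Cfsg.Agent.J2Uniq57.Closure

open Equiv

/-- The generators of the alternating group of degree five. -/
def gen : Fin 3 → alternatingGroup (Fin 5) :=
  ![J2Order38.A5.a0,
    ⟨swap 0 2 * swap 3 4, by rw [Equiv.Perm.mem_alternatingGroup]; decide +kernel⟩,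
    ⟨swap 0 2 * swap 1 3, by rw [Equiv.Perm.mem_alternatingGroup]; decide +kernel⟩]

/-- The value of a word. -/
def ev : List (Fin 3) → alternatingGroup (Fin 5)
  | [] => 1
  | i :: l => gen i * ev l

/-- The reason for a row. -/
inductive Why
  | unit
  | genZ
  | genC
  | genB
  | genU
  | inv (i : ℕ)
  | mul (i j k : ℕ)

/-- A row. -/
structure Row where
  el : List (Fin 3)
  left : List (Fin 3)
  right : Option (List (Fin 3))
  why : Why

/-- The value of the two sides. -/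
def sides (r : Row) : alternatingGroup (Fin 5) × Option (alternatingGroup (Fin 5)) :=
  (ev r.left, r.right.map ev)

/-- The rule for inverses. -/
def invRule : alternatingGroup (Fin 5) × Option (alternatingGroup (Fin 5)) →
    alternatingGroup (Fin 5) × Option (alternatingGroup (Fin 5))
  | (a, none) => (a⁻¹, none)
  | (a, some b) => (b⁻¹, some a⁻¹)

/-- The rule for products. -/
def mulRule (p q : alternatingGroup (Fin 5) × Option (alternatingGroup (Fin 5))) (k : Row) :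
    Option (alternatingGroup (Fin 5) × Option (alternatingGroup (Fin 5))) :=
  match p, q with
  | (a₁, none), (a₂, b₂) => some (a₁ * a₂, b₂)
  | (a₁, some b₁), (a₂, none) => some (a₁, some (b₁ * a₂))
  | (a₁, some b₁), (a₂, some b₂) =>
    if ev k.el = b₁ * a₂ then
      match sides k with
      | (a₃, none) => some (a₁ * a₃ * b₂, none)
      | (a₃, some b₃) => some (a₁ * a₃, some (b₃ * b₂))
    else none

/-- The check of a row against the rows before it. -/
def checkRow (done : List Row) (r : Row) : Bool :=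
  match r.why with
  | .unit => decide (ev r.el = 1 ∧ sides r = (1, none))
  | .genZ => decide (ev r.el = gen 0 ∧ sides r = (gen 0, none))
  | .genC => decide (ev r.el = gen 2 ∧ sides r = (gen 2 * gen 0, none))
  | .genB => decide (ev r.el = gen 1 ∧ sides r = (gen 1, some (gen 1)))
  | .genU => decide (ev r.el = gen 1 * gen 2 * gen 0 * gen 1 * gen 2 ∧
      sides r = (gen 2 * gen 1 * gen 0 * gen 1, some (gen 2 * gen 1 * gen 2)))
  | .inv i =>
    match done[i]? with
    | some x => decide (ev r.el = (ev x.el)⁻¹ ∧ sides r = invRule (sides x))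
    | none => false
  | .mul i j k =>
    match done[i]?, done[j]?, done[k]? with
    | some x, some y, some w =>
      decide (ev r.el = ev x.el * ev y.el ∧ mulRule (sides x) (sides y) w = some (sides r))
    | _, _, _ => false

/-- The check of all rows. -/
def checkAll : List Row → List Row → Bool
  | _, [] => true
  | done, r :: rest => checkRow done r && checkAll (done ++ [r]) rest

/-- The table: an element, the two sides of its double coset form, the reason. -/
def table : List Row := [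
  ⟨[], [], none, .unit⟩,
  ⟨[0], [0], none, .genZ⟩,
  ⟨[2], [0,2], none, .genC⟩,
  ⟨[1], [1], some [1], .genB⟩,
  ⟨[1,0,1,2,1], [2,1,0,1], some [1,2,1], .genU⟩,
  ⟨[1,2,1,0,1], [1,2,1], some [1,0,1,2], .inv 4⟩,
  ⟨[0,2], [2], none, .mul 1 2 0⟩,
  ⟨[0,1], [0,1], some [1], .mul 1 3 0⟩,
  ⟨[0,1,0,1,2,1], [0,2,1,0,1], some [1,2,1], .mul 1 4 0⟩,
  ⟨[0,1,2,1,0,1], [0,1,2,1], some [1,0,1,2], .mul 1 5 0⟩,
  ⟨[2,1], [0,2,1], some [1], .mul 2 3 0⟩,
  ⟨[1,2,1,0,1,2], [0,1,0,1], some [1,2,1], .mul 2 4 0⟩,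
  ⟨[1,0,2,1], [0,1,2], some [1,0,1,2], .mul 2 5 0⟩,
  ⟨[1,0], [1], some [1,0], .mul 3 1 0⟩,
  ⟨[1,2], [1], some [1,0,2], .mul 3 2 0⟩,
  ⟨[0,1,2,1], [2,1], some [1,0,2], .mul 3 4 5⟩,
  ⟨[2,1,0,1], [1,0,2,1], some [0,1,2], .mul 3 5 10⟩,
  ⟨[1,0,1,2,1,0], [2,1,0,1], some [1,2,1,0], .mul 4 1 0⟩,
  ⟨[1,0,1,2], [2,1,0], some [1,0,2,1], .mul 4 3 14⟩,
  ⟨[1,2,1,0,1,0], [1,2,1], some [1,0,1,0,2], .mul 5 1 0⟩,
  ⟨[1,2,1,0], [0,2,1], some [1,2], .mul 5 3 4⟩,
  ⟨[0,2,1], [2,1], some [1], .mul 1 10 0⟩,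
  ⟨[0,1,2,1,0,1,2], [1,0,1], some [1,2,1], .mul 1 11 0⟩,
  ⟨[0,1,0,2,1], [1,2], some [1,0,1,2], .mul 1 12 0⟩,
  ⟨[0,1,0], [0,1], some [1,0], .mul 1 13 0⟩,
  ⟨[0,1,2], [0,1], some [1,0,2], .mul 1 14 0⟩,
  ⟨[1,2,1], [0,2,1], some [1,0,2], .mul 1 15 0⟩,
  ⟨[0,2,1,0,1], [0,1,0,2,1], some [0,1,2], .mul 1 16 0⟩,
  ⟨[0,1,0,1,2,1,0], [0,2,1,0,1], some [1,2,1,0], .mul 1 17 0⟩,
  ⟨[0,1,0,1,2], [0,2,1,0], some [1,0,2,1], .mul 1 18 0⟩,
  ⟨[0,1,2,1,0,1,0], [0,1,2,1], some [1,0,1,0,2], .mul 1 19 0⟩,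
  ⟨[0,1,2,1,0], [2,1], some [1,2], .mul 1 20 0⟩,
  ⟨[2,1,0], [0,2,1], some [1,0], .mul 2 13 0⟩,
  ⟨[1,0,1], [0,1,2,1,0,1], some [0,1,2], .mul 2 16 0⟩,
  ⟨[1,2,1,0,1,0,2], [0,1,0,1], some [1,2,1,0], .mul 2 17 0⟩,
  ⟨[2,1,0,1,2], [0,1,0], some [1,0,2,1], .mul 2 18 0⟩,
  ⟨[1,0,2,1,0], [0,1,2], some [1,0,1,0,2], .mul 2 19 0⟩,
  ⟨[1,0,2], [1], some [1,2], .mul 2 20 0⟩,
  ⟨[1,0,1,2,1,0,1], [1,2,1,0,1], some [1,0,1,2,1], .mul 3 9 4⟩,
  ⟨[2,1,0,1,0], [1,0,2,1], some [0,1,0,2], .mul 3 19 10⟩,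
  ⟨[0,1,0,1,0,2], [1,2,1,0,1,2], some [2,1], .mul 4 4 21⟩,
  ⟨[0,1,0,2,1,0], [0,2,1,0,1], some [2,1], .mul 4 9 35⟩,
  ⟨[0,1,0,1,0], [0,2,1,0], some [1,0,1,2,1], .mul 4 12 11⟩,
  ⟨[1,0,1,0,2], [2,1,0], some [1,0,2,1,0], .mul 4 13 14⟩,
  ⟨[1,0,2,1,0,1,2], [1,0,1,0,2,1], none, .mul 4 15 2⟩,
  ⟨[0,1,0,1,0,2,1], [1,0,2,1,0,1,0], none, .mul 4 18 6⟩,
  ⟨[0,2,1,0,1,0], [1,2], some [1,2,1,0,1,2], .mul 5 5 37⟩,
  ⟨[0,1,0,2], [0,1,2], some [0,1,2,1], .mul 5 9 40⟩,
  ⟨[0,2,1,0], [2,1], some [1,0], .mul 6 13 0⟩,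
  ⟨[0,1,0,1], [1,2,1,0,1], some [0,1,2], .mul 6 16 0⟩,
  ⟨[0,2,1,0,1,2], [1,0], some [1,0,2,1], .mul 6 18 0⟩,
  ⟨[1,0,1,0], [2,1,0], some [1,0,1,2,1], .mul 8 12 11⟩,
  ⟨[1,0,2,1,0,1,0], [0,1,0,1,0,2,1], none, .mul 8 15 2⟩,
  ⟨[1,0,1,0,2,1], [1,0,2,1,0,1,2], none, .mul 8 18 6⟩,
  ⟨[0,2,1,0,1,0,2], [0,1,0,1,2,1], some [2,1], .mul 11 4 21⟩,
  ⟨[2,1,0,1,0,2], [0,1,0], some [1,0,2,1,0], .mul 11 13 14⟩,
  ⟨[0,1,0,2,1,0,1], [1,0,1,0,2,1,0], none, .mul 11 15 2⟩,
  ⟨[1,0,1,0,2,1,0], [0,1,0,2,1,0,1], none, .mul 11 18 6⟩,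
  ⟨[1,0,2,1,0,1], [2,1,0,1,0,2,1], none, .mul 12 7 53⟩,
  ⟨[2,1,0,1,0,2,1], [1,0,2,1,0,1], none, .mul 13 17 58⟩]

/-- Representatives of the five cosets. -/
def reps : List (List (Fin 3)) := [[], [1], [1,0], [1,2], [1,0,1]]

set_option maxRecDepth 100000 in
theorem table_ok : checkAll [] table = true := by decide +kernel

set_option maxRecDepth 100000 in
theorem table_all : ∀ m : alternatingGroup (Fin 5), (table.map fun r => ev r.el).elem m = true := by
  decide +kernel

set_option maxRecDepth 100000 in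
theorem reps_all : ∀ m : alternatingGroup (Fin 5),
    ((table.filter fun r => r.right.isNone).any fun r => (reps.any fun s => decide (m = ev r.el * ev s))) = true := by
  decide +kernel

variable {G : Type*} [Group G]

/-- The value of the two sides in `G`. -/
def val (ψ : alternatingGroup (Fin 5) →* G) (f : G) :
    alternatingGroup (Fin 5) × Option (alternatingGroup (Fin 5)) → G
  | (a, none) => ψ a
  | (a, some b) => ψ a * f * ψ b

/-- The relations. -/
structure Rels (ψ : alternatingGroup (Fin 5) →* G) (f : G) : Prop where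
  sq : f * f = 1
  relZ : f * ψ (gen 0) * f = ψ (gen 0)
  relC : f * ψ (gen 2) * f = ψ (gen 2 * gen 0)
  relB : f * ψ (gen 1) * f = ψ (gen 1) * f * ψ (gen 1)
  relU : f * ψ (gen 1 * gen 2 * gen 0 * gen 1 * gen 2) * f =
    ψ (gen 2 * gen 1 * gen 0 * gen 1) * f * ψ (gen 2 * gen 1 * gen 2)

variable {ψ : alternatingGroup (Fin 5) →* G} {f : G}

/-- A correct row. -/
def Correct (ψ : alternatingGroup (Fin 5) →* G) (f : G) (r : Row) : Prop :=
  f * ψ (ev r.el) * f = val ψ f (sides r)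

theorem Rels.checkRow (h : Rels ψ f) {done : List Row} (hd : ∀ x ∈ done, Correct ψ f x) {r : Row}
    (hr : checkRow done r = true) : Correct ψ f r := by
  have hfi : f⁻¹ = f := inv_eq_of_mul_eq_one_right h.sq
  unfold Closure.checkRow at hr
  unfold Correct
  split at hr
  · obtain ⟨e1, e2⟩ := of_decide_eq_true hr
    rw [e1, e2, map_one, mul_one, h.sq]; exact (map_one ψ).symm
  · obtain ⟨e1, e2⟩ := of_decide_eq_true hr
    rw [e1, e2]; exact h.relZ
  · obtain ⟨e1, e2⟩ := of_decide_eq_true hr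
    rw [e1, e2]; exact h.relC
  · obtain ⟨e1, e2⟩ := of_decide_eq_true hr
    rw [e1, e2]; exact h.relB
  · obtain ⟨e1, e2⟩ := of_decide_eq_true hr
    rw [e1, e2]; exact h.relU
  · split at hr
    · rename_i x hx
      obtain ⟨e1, e2⟩ := of_decide_eq_true hr
      have hc : f * ψ (ev x.el) * f = val ψ f (sides x) := hd x (List.mem_of_getElem? hx)
      rw [e1, e2, map_inv]
      have e3 : f * (ψ (ev x.el))⁻¹ * f = (f * ψ (ev x.el) * f)⁻¹ := by
        rw [mul_inv_rev, mul_inv_rev, hfi, mul_assoc]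
      rw [e3, hc]
      rcases sides x with ⟨a, _ | b⟩
      · exact (map_inv ψ a).symm
      · simp only [invRule, val, map_inv, mul_inv_rev, hfi, mul_assoc]
    · exact absurd hr Bool.false_ne_true
  · split at hr
    · rename_i x y w hx hy hw
      obtain ⟨e1, e2⟩ := of_decide_eq_true hr
      have hcx : f * ψ (ev x.el) * f = val ψ f (sides x) := hd x (List.mem_of_getElem? hx)
      have hcy : f * ψ (ev y.el) * f = val ψ f (sides y) := hd y (List.mem_of_getElem? hy)
      have hcw : f * ψ (ev w.el) * f = val ψ f (sides w) := hd w (List.mem_of_getElem? hw)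
      have e3 : f * ψ (ev r.el) * f = val ψ f (sides x) * val ψ f (sides y) := by
        rw [← hcx, ← hcy, e1, map_mul]
        calc f * (ψ (ev x.el) * ψ (ev y.el)) * f
            = f * ψ (ev x.el) * (f * f) * ψ (ev y.el) * f := by rw [h.sq]; group
          _ = _ := by group
      rw [e3]
      generalize hsx : sides x = p at e2 ⊢
      generalize hsy : sides y = q at e2 ⊢
      rcases p with ⟨a₁, _ | b₁⟩
      · rcases q with ⟨a₂, _ | b₂⟩ <;>
          · simp only [mulRule, Option.some.injEq] at e2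
            rw [← e2]; simp only [val, map_mul, mul_assoc]
      · rcases q with ⟨a₂, _ | b₂⟩
        · simp only [mulRule, Option.some.injEq] at e2
          rw [← e2]; simp only [val, map_mul, mul_assoc]
        · simp only [mulRule] at e2
          split_ifs at e2 with hk
          rw [hk] at hcw
          generalize hsw : sides w = v at e2 hcw
          have e4 : val ψ f (a₁, some b₁) * val ψ f (a₂, some b₂) =
              ψ a₁ * (f * ψ (b₁ * a₂) * f) * ψ b₂ := by
            simp only [val, map_mul, mul_assoc]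
          rw [e4, hcw]
          rcases v with ⟨a₃, _ | b₃⟩ <;>
          · simp only [Option.some.injEq] at e2
            rw [← e2]; simp only [val, map_mul, mul_assoc]
    · exact absurd hr Bool.false_ne_true

theorem Rels.checkAll (h : Rels ψ f) : ∀ {rest done : List Row}, (∀ x ∈ done, Correct ψ f x) →
    checkAll done rest = true → ∀ x ∈ rest, Correct ψ f x
  | [], _, _, _ => fun _ hx => absurd hx List.not_mem_nil
  | r :: rest, done, hd, hc => by
    rw [Closure.checkAll, Bool.and_eq_true] at hc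
    have hr := h.checkRow hd hc.1
    intro x hx
    rcases List.mem_cons.mp hx with rfl | hx
    · exact hr
    · refine Rels.checkAll h (fun y hy => ?_) hc.2 x hx
      rcases List.mem_append.mp hy with hy | hy
      · exact hd y hy
      · rw [List.mem_singleton.mp hy]; exact hr

theorem Rels.exists_row (h : Rels ψ f) (m : alternatingGroup (Fin 5)) :
    ∃ r ∈ table, f * ψ m * f = val ψ f (sides r) := by
  obtain ⟨r, hr, e⟩ := List.mem_map.mp (List.elem_iff.mp (table_all m))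
  exact ⟨r, hr, e ▸ h.checkAll (fun _ hx => absurd hx List.not_mem_nil) table_ok r hr⟩

/-- The union of the two double cosets. -/
def carrier (ψ : alternatingGroup (Fin 5) →* G) (f : G) : Set G :=
  {g | ∃ p : alternatingGroup (Fin 5) × Option (alternatingGroup (Fin 5)), g = val ψ f p}

/-- The subgroup it forms. -/
def Rels.group (h : Rels ψ f) : Subgroup G where
  carrier := carrier ψ f
  one_mem' := ⟨(1, none), (map_one ψ).symm⟩
  mul_mem' := by
    rintro _ _ ⟨⟨a, _ | b⟩, rfl⟩ ⟨⟨a', _ | b'⟩, rfl⟩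
    · exact ⟨(a * a', none), (map_mul ψ a a').symm⟩
    · exact ⟨(a * a', some b'), by simp only [val, map_mul, mul_assoc]⟩
    · exact ⟨(a, some (b * a')), by simp only [val, map_mul, mul_assoc]⟩
    · obtain ⟨r, -, hr⟩ := h.exists_row (b * a')
      have e : val ψ f (a, some b) * val ψ f (a', some b') =
          ψ a * (f * ψ (b * a') * f) * ψ b' := by simp only [val, map_mul, mul_assoc]
      rw [e, hr]
      rcases sides r with ⟨a₃, _ | b₃⟩
      · exact ⟨(a * a₃ * b', none), by simp only [val, map_mul]⟩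
      · exact ⟨(a * a₃, some (b₃ * b')), by simp only [val, map_mul, mul_assoc]⟩
  inv_mem' := by
    rintro _ ⟨⟨a, _ | b⟩, rfl⟩
    · exact ⟨(a⁻¹, none), (map_inv ψ a).symm⟩
    · exact ⟨(b⁻¹, some a⁻¹), by
        simp only [val, map_inv, mul_inv_rev, inv_eq_of_mul_eq_one_right h.sq, mul_assoc]⟩

theorem Rels.range_le (h : Rels ψ f) : ψ.range ≤ h.group := by
  rintro _ ⟨a, rfl⟩; exact ⟨(a, none), rfl⟩

theorem Rels.f_mem (h : Rels ψ f) : f ∈ h.group :=
  ⟨(1, some 1), by simp [val]⟩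

theorem Rels.card_le (h : Rels ψ f) : Nat.card h.group ≤ 360 := by
  classical
  let D := alternatingGroup (Fin 5) × Option (Fin 5)
  let F : D → h.group := fun p => match p with
    | (a, none) => ⟨ψ a, (a, none), rfl⟩
    | (a, some i) => ⟨ψ a * f * ψ (ev (reps.getD i [])), (a, some _), rfl⟩
  have hF : Function.Surjective F := by
    rintro ⟨_, ⟨a, _ | b⟩, rfl⟩
    · exact ⟨(a, none), rfl⟩
    · obtain ⟨r, hr, hs⟩ := List.any_eq_true.mp (reps_all b)
      obtain ⟨hrT, hrn⟩ := List.mem_filter.mp hr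
      obtain ⟨s, hs, hb⟩ := List.any_eq_true.mp hs
      obtain ⟨i, hi, rfl⟩ := List.getElem_of_mem hs
      have hc : f * ψ (ev r.el) * f = ψ (ev r.left) := by
        rw [h.checkAll (fun _ hx => absurd hx List.not_mem_nil) table_ok r hrT, sides,
          Option.isNone_iff_eq_none.mp hrn]
        rfl
      refine ⟨(a * ev r.left, some ⟨i, hi⟩), Subtype.ext ?_⟩
      have hc' : f * ψ (ev r.el) = ψ (ev r.left) * f := by
        rw [← hc, mul_assoc (f * ψ (ev r.el)), h.sq, mul_one]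
      show ψ (a * ev r.left) * f * ψ (ev (reps.getD i [])) = ψ a * f * ψ b
      rw [List.getD_eq_getElem _ _ hi, of_decide_eq_true hb, map_mul, map_mul, ← mul_assoc,
        mul_assoc (ψ a) (ψ (ev r.left)) f, ← hc']
      group
  refine (Nat.card_le_card_of_surjective F hF).trans (le_of_eq ?_)
  rw [Nat.card_prod, J2Order38.A5.card_eq, Nat.card_eq_fintype_card, Fintype.card_option, Fintype.card_fin]

end Cfsg.Agent.J2Uniq57.Closure
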