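import Cfsg.Agent.J2Uniq57.Closure

/-!
Facts on small permutation groups.
-/

set_option autoImplicit false

namespace Cfsg.Agent.J2Uniq57.Small

open Equiv Closure

set_option maxRecDepth 100000 in
theorem gen_facts :
    gen 0 * gen 0 = 1 ∧ gen 1 * gen 1 = 1 ∧ gen 2 * gen 2 = 1 ∧
    gen 0 * gen 2 = gen 2 * gen 0 ∧ (gen 1 * gen 2) ^ 3 = 1 ∧ (gen 0 * gen 1) ^ 5 = 1 ∧
    gen 0 ≠ 1 ∧ gen 1 ≠ 1 ∧ gen 2 ≠ 1 ∧ gen 2 ≠ gen 0 ∧ gen 0 * gen 1 ≠ 1 ∧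
    gen 2 * gen 1 * gen 2 = gen 1 * gen 2 * gen 1 ∧
    (gen 1 * (gen 2 * gen 0)) ^ 3 ≠ 1 := by
  decide +kernel

/-- Any element of the alternating group is a word. -/
theorem closure_gen (H : Subgroup (alternatingGroup (Fin 5))) (h : ∀ i, gen i ∈ H) : H = ⊤ := by
  refine (Subgroup.eq_top_iff' H).mpr fun m => ?_
  obtain ⟨r, -, e⟩ := List.mem_map.mp (List.elem_iff.mp (table_all m))
  rw [← e]
  clear e
  induction r.el with
  | nil => exact one_mem H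
  | cons i l ih => exact mul_mem (h i) ih

set_option maxRecDepth 100000 in
theorem four_three : ∀ x : alternatingGroup (Fin 4), x ^ 3 = 1 ∧ x ≠ 1 →
    ∀ e : alternatingGroup (Fin 4), e * e = 1 ∧ e ≠ 1 → (x * e) ^ 3 = 1 := by
  decide +kernel

/-- The conditions on the fourth generator in the quotient. -/
def DProps (x e d : alternatingGroup (Fin 5)) : Prop :=
  d * d = 1 ∧ d ≠ 1 ∧ (d * e) ^ 3 = 1 ∧ d * e ≠ e * d ∧ d * x * d⁻¹ = x⁻¹

instance (x e d : alternatingGroup (Fin 5)) : Decidable (DProps x e d) := by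
  unfold DProps; infer_instance

set_option maxRecDepth 100000 in
theorem exists_d : ∀ x : alternatingGroup (Fin 5), x ^ 3 = 1 ∧ x ≠ 1 →
    ∀ e : alternatingGroup (Fin 5), e * e = 1 ∧ e ≠ 1 ∧ (x * e) ^ 3 = 1 →
    ∃ d : alternatingGroup (Fin 5), DProps x e d ∧ (d * (x * e * x⁻¹)) ^ 5 = 1 ∧
      d * (x * e * x⁻¹) ≠ 1 ∧ ∀ d' : alternatingGroup (Fin 5), DProps x e d' → d' = d := by
  decide +kernel

/-- A fixed double transposition on six points. -/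
def Z0 : Perm (Fin 6) := swap 0 1 * swap 2 3

/-- The involutions on six points that can occur. -/
def Invol (p : Perm (Fin 6)) : Prop := p * p = 1 ∧ p ≠ 1

instance (p : Perm (Fin 6)) : Decidable (Invol p) := by unfold Invol; infer_instance

set_option maxRecDepth 100000 in
theorem reduce : ∀ Z : Perm (Fin 6), Invol Z →
    (∃ g : Perm (Fin 6), g * Z0 * g⁻¹ = Z) ∨
      ∀ B : Perm (Fin 6), (Invol B ∧ (Z * B) ^ 5 = 1) → Z * B = 1 := by
  decide +kernel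

set_option maxRecDepth 100000 in
theorem six_fixed : ∀ B : Perm (Fin 6), Invol B ∧ (Z0 * B) ^ 5 = 1 ∧ Z0 * B ≠ 1 →
    ∀ C : Perm (Fin 6), Invol C ∧ Z0 * C = C * Z0 ∧ C ≠ Z0 ∧ (B * C) ^ 3 = 1 →
    ∀ F : Perm (Fin 6), Invol F ∧ F * Z0 = Z0 * F ∧ (C * F) ^ 2 = Z0 ∧ (B * F) ^ 3 = 1 →
      (B * C * F) ^ 5 = 1 := by
  decide +kernel

theorem six {Z B C F : Perm (Fin 6)} (hZ : Invol Z) (hB : Invol B) (hC : Invol C) (hF : Invol F)
    (hZB : (Z * B) ^ 5 = 1) (hZB1 : Z * B ≠ 1) (hZC : Z * C = C * Z) (hCZ : C ≠ Z)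
    (hBC : (B * C) ^ 3 = 1) (hFZ : F * Z = Z * F) (hCF : (C * F) ^ 2 = Z) (hBF : (B * F) ^ 3 = 1) :
    (B * C * F) ^ 5 = 1 := by
  rcases reduce Z hZ with ⟨g, hg⟩ | h
  swap
  · exact absurd (h B ⟨hB, hZB⟩) hZB1
  let κ : Perm (Fin 6) ≃* Perm (Fin 6) := (MulAut.conj g).symm
  have hκ : κ Z = Z0 := by
    rw [← hg]; exact (MulAut.conj g).symm_apply_apply Z0
  have hi : ∀ {p : Perm (Fin 6)}, Invol p → Invol (κ p) := fun {p} hp =>
    ⟨by rw [← map_mul, hp.1, map_one], fun e => hp.2 ((map_eq_one_iff κ κ.injective).mp e)⟩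
  refine (map_eq_one_iff κ κ.injective).mp ?_
  rw [map_pow, map_mul, map_mul]
  refine six_fixed (κ B) ⟨hi hB, ?_, ?_⟩ (κ C) ⟨hi hC, ?_, ?_, ?_⟩ (κ F) ⟨hi hF, ?_, ?_, ?_⟩
  · rw [← hκ, ← map_mul, ← map_pow, hZB, map_one]
  · rw [← hκ, ← map_mul]; exact fun e => hZB1 ((map_eq_one_iff κ κ.injective).mp e)
  · rw [← hκ, ← map_mul, ← map_mul, hZC]
  · rw [← hκ]; exact fun e => hCZ (κ.injective e)
  · rw [← map_mul, ← map_pow, hBC, map_one]
  · rw [← hκ, ← map_mul, ← map_mul, hFZ]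
  · rw [← hκ, ← map_mul, ← map_pow, hCF]
  · rw [← map_mul, ← map_pow, hBF, map_one]

end Cfsg.Agent.J2Uniq57.Small
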