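import Cfsg.Agent.J2Order38.ThreeSylow
import Cfsg.Agent.J2Order38.Five
import Cfsg.Agent.J2Order38.Order
import Cfsg.Agent.J2Uniq57.Small

/-!
Five involutions in a group of Hall-Janko type.
-/

set_option autoImplicit false

namespace Cfsg.Agent.J2Uniq57

open Cfsg.Agent.J2Order38

variable {G : Type*} [Group G] [Finite G] {z t : G} {Q : Subgroup G}

/-- The configuration of the first stage. -/
structure Config (z t : G) (Q M L : Subgroup G) (ψ : alternatingGroup (Fin 5) →* G) (x d : G) :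
    Prop where
  hjg : HJG z Q t
  split : ∃ V, TSplit z t V M ∧ NSplit z t V M L
  inj : Function.Injective ψ
  range : ψ.range = M
  psi_z : ψ (Closure.gen 0) = z
  x_mem : x ∈ L
  x_order : orderOf x = 3
  d_sq : d * d = 1
  d_z : Commute d z
  d_b : Commute d (ψ (Closure.gen 1))
  d_c : (ψ (Closure.gen 2) * d) ^ 4 = z
  d_t : (d * t) ^ 3 = 1
  d_x : d * x * d⁻¹ = x⁻¹

theorem inj_five {z w k : G} (hz : z * w * z⁻¹ = w⁻¹) (hw : w ^ 5 = 1)
    (hk : k ∈ Subgroup.zpowers w) (hzk : Commute z k) : k = 1 := by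
  obtain ⟨i, rfl⟩ := Subgroup.mem_zpowers_iff.mp hk
  have e : w ^ i = (w ^ i)⁻¹ := by
    rw [← inv_zpow, ← hz, conj_zpow, hzk.eq, mul_inv_cancel_right]
  have h2 : (w ^ i) * (w ^ i) = 1 := by nth_rewrite 2 [e]; exact mul_inv_cancel _
  have h5 : (w ^ i) ^ 5 = 1 := mem_zpowers_pow_eq (Subgroup.zpow_mem _ (Subgroup.mem_zpowers w) i) hw
  calc w ^ i = (w ^ i) ^ 5 * ((w ^ i * w ^ i) * (w ^ i * w ^ i))⁻¹ := by group
    _ = 1 := by rw [h5, h2]; group

theorem exists_lift {z w y : G} (hzz : z * z = 1) (hzw : z * w * z⁻¹ = w⁻¹) (hw : w ^ 5 = 1)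
    (hwy : Commute w y) (hy : z * y * z⁻¹ * y⁻¹ ∈ Subgroup.zpowers w) :
    ∃ j : ℤ, Commute z (y * w ^ j) := by
  obtain ⟨i, hi⟩ := Subgroup.mem_zpowers_iff.mp hy
  refine ⟨3 * i, ?_⟩
  have e1 : z * y * z⁻¹ = y * w ^ i := by
    calc z * y * z⁻¹ = (z * y * z⁻¹ * y⁻¹) * y := by group
      _ = w ^ i * y := by rw [hi]
      _ = y * w ^ i := (hwy.zpow_left i).eq
  have e2 : z * (y * w ^ (3 * i)) * z⁻¹ = y * w ^ (3 * i) := by
    calc z * (y * w ^ (3 * i)) * z⁻¹ = (z * y * z⁻¹) * (z * w * z⁻¹) ^ (3 * i) := by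
          rw [conj_zpow]; group
      _ = y * (w ^ i * w⁻¹ ^ (3 * i)) := by rw [e1, hzw]; group
      _ = y * w ^ (3 * i) := by
        have h5 : w ^ (5 * i) = 1 := by rw [zpow_mul, show (5 : ℤ) = ((5 : ℕ) : ℤ) from rfl, zpow_natCast, hw, one_zpow]
        congr 1
        calc w ^ i * w⁻¹ ^ (3 * i) = w ^ (3 * i) * (w ^ (5 * i))⁻¹ := by group
          _ = w ^ (3 * i) := by rw [h5, inv_one, mul_one]
  exact mul_inv_eq_iff_eq_mul.mp e2

theorem exists_config (D : HJG z Q t) : ∃ M L ψ x d, Config z t Q M L ψ x d := by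
  classical
  have P := D.pair
  have h := P.hj
  obtain ⟨V, M, T⟩ := D.exists_split
  obtain ⟨L, N⟩ := T.exists_nsplit P.outer.order
  have hzt : Commute t z := P.outer.comm.symm
  have hzM : z ∈ M := T.class_mem z (IsConj.refl _) hzt
  obtain ⟨φ⟩ := T.alt
  have hz1 : φ ⟨z, hzM⟩ ≠ 1 := fun e => h.z_ne (congrArg Subtype.val ((map_eq_one_iff φ φ.injective).mp e))
  obtain ⟨k, hk⟩ := A5.exists_conj (φ ⟨z, hzM⟩)
    (by rw [← map_mul, show (⟨z, hzM⟩ : M) * ⟨z, hzM⟩ = 1 from Subtype.ext h.z_sq, map_one]) hz1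
  obtain ⟨ψ, hinj, hrange, hψz⟩ : ∃ ψ : alternatingGroup (Fin 5) →* G,
      Function.Injective ψ ∧ ψ.range = M ∧ ψ (Closure.gen 0) = z := by
    let e : alternatingGroup (Fin 5) ≃* M := (MulAut.conj k).trans φ.symm
    refine ⟨M.subtype.comp e.toMonoidHom, M.subtype_injective.comp e.injective, ?_, ?_⟩
    · rw [MonoidHom.range_comp, MonoidHom.range_eq_top.mpr e.surjective, ← MonoidHom.range_eq_map,
        Subgroup.range_subtype]
    · show ((φ.symm (k * A5.a0 * k⁻¹) : M) : G) = z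
      rw [hk, MulEquiv.symm_apply_apply]
  obtain ⟨g00, g11, g22, g02, g12, g01, n0, n1, n2, n20, n01, -, nbcz⟩ := Small.gen_facts
  set b := ψ (Closure.gen 1) with hb
  set c := ψ (Closure.gen 2) with hc
  have hM : ∀ a, ψ a ∈ M := fun a => hrange ▸ ⟨a, rfl⟩
  have hne : ∀ {a}, a ≠ 1 → ψ a ≠ 1 := fun ha e => ha (hinj (e.trans (map_one ψ).symm))
  have hb2 : b * b = 1 := by rw [hb, ← map_mul, g11, map_one]
  have hbi : b⁻¹ = b := inv_eq_of_mul_eq_one_right hb2
  set w := z * b with hwd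
  have hw5 : w ^ 5 = 1 := by rw [hwd, hb, ← hψz, ← map_mul, ← map_pow, g01, map_one]
  have hwM : w ∈ M := mul_mem hzM (hM _)
  have hwo : orderOf w = 5 := by
    haveI : Fact (Nat.Prime 5) := ⟨Nat.prime_five⟩
    refine orderOf_eq_prime hw5 ?_
    rw [hwd, hb, ← hψz, ← map_mul]
    exact hne n01
  have A := T.fiveAData N D.card ⟨hwM, hwo⟩
  have hzw : z * w * z⁻¹ = w⁻¹ := by
    rw [hwd, mul_inv_rev, hbi, h.z_inv, ← mul_assoc, h.z_sq, one_mul]
  set C := Subgroup.centralizer ({w} : Set G) with hC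
  have hq : ∃ π : C →* alternatingGroup (Fin 5),
      Function.Surjective π ∧ ∀ y, π y = 1 ↔ (y : G) ∈ Subgroup.zpowers w := A.quot
  obtain ⟨π, hπs, hπ⟩ := hq
  have toC : ∀ {y : G}, Commute w y → y ∈ C := fun hy =>
    Subgroup.mem_centralizer_singleton_iff.mpr hy.eq.symm
  have ofC : ∀ y : C, Commute w (y : G) := fun y =>
    (Subgroup.mem_centralizer_singleton_iff.mp y.2).symm
  have hconjC : ∀ y : C, z * (y : G) * z⁻¹ ∈ C := fun y => by
    apply toC
    have := (Commute.map (ofC y).inv_left (MulAut.conj z).toMonoidHom)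
    simpa [← hzw, mul_assoc, h.z_inv, h.z_sq, ← mul_assoc z z] using this
  -- the elements of `L`
  obtain ⟨φ4⟩ := N.alt
  obtain ⟨⟨x, hxL⟩, hx⟩ := exists_prime_orderOf_dvd_card' (G := L) 3 (hp := ⟨Nat.prime_three⟩) (by
    rw [N.card_L]; norm_num)
  rw [Subgroup.orderOf_mk] at hx
  have hx3 : x ^ 3 = 1 := hx ▸ pow_orderOf_eq_one x
  have hx1 : x ≠ 1 := fun e => by rw [e, orderOf_one] at hx; omega
  have htL : t ∈ L := N.V_le T.mem_V
  have ht2 : t * t = 1 := P.outer.sq
  have ht1 : t ≠ 1 := fun e => by simpa [e] using P.outer.order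
  have hxt : (x * t) ^ 3 = 1 := by
    have := Small.four_three (φ4 ⟨x, hxL⟩)
      ⟨by rw [← map_pow, show (⟨x, hxL⟩ : L) ^ 3 = 1 from Subtype.ext hx3, map_one],
        fun e => hx1 (congrArg Subtype.val ((map_eq_one_iff φ4 φ4.injective).mp e))⟩ (φ4 ⟨t, htL⟩)
      ⟨by rw [← map_mul, show (⟨t, htL⟩ : L) * ⟨t, htL⟩ = 1 from Subtype.ext ht2, map_one],
        fun e => ht1 (congrArg Subtype.val ((map_eq_one_iff φ4 φ4.injective).mp e))⟩
    rw [← map_mul, ← map_pow, map_eq_one_iff φ4 φ4.injective] at this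
    exact congrArg Subtype.val this
  have hLz : ∀ l ∈ L, Commute z l := fun l hl => (N.comm l hl z hzM).symm
  have hLw : ∀ l ∈ L, l ∈ C := fun l hl => toC (N.comm l hl w hwM).symm
  -- elements of `C(z) ∩ C(w)` embed
  have hinjK : ∀ y : C, Commute z (y : G) → π y = 1 → (y : G) = 1 := fun y hzy e =>
    inj_five hzw hw5 ((hπ y).mp e) hzy
  set xC : C := ⟨x, hLw x hxL⟩ with hxC
  set tC : C := ⟨t, hLw t htL⟩ with htC
  have hx' : π xC ^ 3 = 1 ∧ π xC ≠ 1 :=
    ⟨by rw [← map_pow, show xC ^ 3 = 1 from Subtype.ext hx3, map_one],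
      fun e => hx1 (hinjK xC (hLz x hxL) e)⟩
  have ht' : π tC * π tC = 1 ∧ π tC ≠ 1 ∧ (π xC * π tC) ^ 3 = 1 :=
    ⟨by rw [← map_mul, show tC * tC = 1 from Subtype.ext ht2, map_one],
      fun e => ht1 (hinjK tC (hLz t htL) e),
      by rw [← map_mul, ← map_pow, show (xC * tC) ^ 3 = 1 from Subtype.ext hxt, map_one]⟩
  obtain ⟨d', ⟨q1, q2, q3, q4, q5⟩, q6, q7, huniq⟩ := Small.exists_d (π xC) hx' (π tC) ht'
  obtain ⟨y, hy⟩ := hπs d'
  let κ : C →* C := MonoidHom.mk' (fun v => ⟨z * (v : G) * z⁻¹, hconjC v⟩)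
    (fun a b => Subtype.ext (by push_cast; group))
  have hκL : ∀ l (hl : l ∈ L), κ ⟨l, hLw l hl⟩ = ⟨l, hLw l hl⟩ := fun l hl => Subtype.ext (by
    show z * l * z⁻¹ = l
    rw [(hLz l hl).eq, mul_inv_cancel_right])
  have hκinj : ∀ v : C, π (κ v) = 1 → π v = 1 := by
    intro v hv
    have hv' : z * (v : G) * z⁻¹ ∈ Subgroup.zpowers w := (hπ _).mp hv
    obtain ⟨i, hi⟩ := Subgroup.mem_zpowers_iff.mp hv'
    refine (hπ _).mpr (Subgroup.mem_zpowers_iff.mpr ⟨-i, ?_⟩)
    have e : (v : G) = z⁻¹ * w ^ i * z := by rw [hi]; group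
    rw [e, h.z_inv]
    nth_rewrite 2 [← h.z_inv]
    rw [← conj_zpow, hzw, inv_zpow']
  have hκt : κ tC = tC := hκL t htL
  have hκx : κ xC = xC := hκL x hxL
  have hκker : ∀ v : C, π v = 1 → π (κ v) = 1 := by
    intro v hv
    obtain ⟨i, hi⟩ := Subgroup.mem_zpowers_iff.mp ((hπ _).mp hv)
    refine (hπ _).mpr (Subgroup.mem_zpowers_iff.mpr ⟨-i, ?_⟩)
    show _ = z * (v : G) * z⁻¹
    rw [← hi, ← conj_zpow, hzw, inv_zpow']
  have hky : π (κ y) = d' := by
    refine huniq _ ⟨?_, fun e => q2 (hy ▸ hκinj y e), ?_, ?_, ?_⟩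
    · have := hκker (y * y) (by rw [map_mul, hy, q1])
      rwa [map_mul, map_mul] at this
    · have := hκker ((y * tC) ^ 3) (by rw [map_pow, map_mul, hy, q3])
      rwa [map_pow, map_mul, hκt, map_pow, map_mul] at this
    · intro e
      have := hκinj (y * tC * (tC * y)⁻¹) (by
        simp only [map_mul, map_inv, hκt, e, mul_inv_cancel])
      rw [map_mul, map_mul, map_inv, map_mul, mul_inv_eq_one, hy] at this
      exact q4 this
    · have := hκker (y * xC * y⁻¹ * xC) (by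
        rw [map_mul, map_mul, map_mul, map_inv, hy, q5, inv_mul_cancel])
      simp only [map_mul, map_inv, hκx] at this
      exact eq_inv_of_mul_eq_one_left this
  obtain ⟨j, hj⟩ := exists_lift h.z_sq hzw hw5 (ofC y) (y := (y : G)) (by
    refine (hπ (κ y * y⁻¹)).mp ?_
    rw [map_mul, map_inv, hky, hy, mul_inv_cancel])
  obtain ⟨d, hd⟩ : ∃ d, d = (y : G) * w ^ j := ⟨_, rfl⟩
  rw [← hd] at hj
  have hdC : d ∈ C := hd ▸ mul_mem y.2 (zpow_mem (toC (Commute.refl w)) j)
  set dC : C := ⟨d, hdC⟩ with hdC'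
  have hπd : π dC = d' := by
    have e : dC = y * ⟨w ^ j, zpow_mem (toC (Commute.refl w)) j⟩ := Subtype.ext hd
    rw [e, map_mul, hy, (hπ _).mpr (Subgroup.zpow_mem _ (Subgroup.mem_zpowers w) j), mul_one]
  have d_sq : d * d = 1 := hinjK (dC * dC) (hj.mul_right hj) (by rw [map_mul, hπd, q1])
  have d_t : (d * t) ^ 3 = 1 := hinjK ((dC * tC) ^ 3) ((hj.mul_right (hLz t htL)).pow_right 3)
    (by rw [map_pow, map_mul, hπd, q3])
  have d_x : d * x * d⁻¹ = x⁻¹ := by
    have := hinjK (dC * xC * dC⁻¹ * (xC⁻¹)⁻¹)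
      (((hj.mul_right (hLz x hxL)).mul_right hj.inv_right).mul_right (hLz x hxL).inv_right.inv_right)
      (by rw [map_mul, map_mul, map_mul, map_inv, map_inv, map_inv, hπd, q5, mul_inv_cancel])
    exact mul_inv_eq_one.mp this
  have d_b : Commute d b := by
    have hdw : Commute w d := ofC dC
    have : Commute d (z * w) := hj.symm.mul_right hdw.symm
    rwa [hwd, ← mul_assoc, h.z_sq, one_mul] at this
  have hdi : d⁻¹ = d := inv_eq_of_mul_eq_one_right d_sq
  have hti : t⁻¹ = t := P.outer.inv_eq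
  have hdconj : IsConj t d := by
    refine (isConj_iff.mpr ⟨d * t, ?_⟩ : IsConj d t).symm
    calc d * t * d * (d * t)⁻¹ = d * t * d * t * d := by rw [mul_inv_rev, hdi, hti]; group
      _ = (d * t) ^ 3 * t⁻¹ := by simp only [pow_succ, pow_zero, one_mul]; group
      _ = t := by rw [d_t, one_mul, hti]
  have hdo : Outer z Q d := P.outer_of_conj hdconj hj
  -- the element `c`
  have hc2 : c * c = 1 := by rw [hc, ← map_mul, g22, map_one]
  have hco : orderOf c = 2 := orderOf_eq_prime (by rw [pow_two]; exact hc2) (hne n2)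
  have hzc : Commute z c := by
    show _ * _ = _ * _
    rw [hc, ← hψz, ← map_mul, ← map_mul, g02]
  have hcz : c ≠ z := fun e => n20 (hinj (e.trans hψz.symm))
  have hci : c ∈ invs z Q :=
    (P.classify hc2 hzc (T.inv_class c (hM _) hco)).resolve_left hcz
  have hncd : ¬ Commute c d := by
    intro hcd
    set g := d * (x * t * x⁻¹) with hg
    have hgz : Commute z g :=
      hj.mul_right (((hLz x hxL).mul_right (hLz t htL)).mul_right (hLz x hxL).inv_right)
    have hgC : g = ((dC * (xC * tC * xC⁻¹) : C) : G) := rfl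
    have hg5 : orderOf g = 5 := by
      haveI : Fact (Nat.Prime 5) := ⟨Nat.prime_five⟩
      refine orderOf_eq_prime ?_ ?_
      · exact hinjK ((dC * (xC * tC * xC⁻¹)) ^ 5) (hgz.pow_right 5)
          (by rw [map_pow, map_mul, map_mul, map_mul, map_inv, hπd, q6])
      · intro e
        apply q7
        have e2 : dC * (xC * tC * xC⁻¹) = 1 := Subtype.ext e
        rw [← hπd, ← map_inv, ← map_mul, ← map_mul, ← map_mul, e2, map_one]
    have hcL : ∀ l ∈ L, Commute c l := fun l hl => (N.comm l hl c (hM _)).symm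
    have hgc : Commute g c :=
      (hcd.mul_right (((hcL x hxL).mul_right (hcL t htL)).mul_right (hcL x hxL).inv_right)).symm
    rcases h.cases_z (h.five_fix hgz hg5 hci.1 hgc) with e | e
    · exact hci.2.2.1 e
    · exact hci.2.2.2 e
  have hcinv : c⁻¹ = c := inv_eq_of_mul_eq_one_right hc2
  set u := disp d c with hu
  have hu' : u = (c * d) ^ 2 := by rw [hu, disp, hcinv, pow_two]; group
  have hucd : d * c * d = c * u := by rw [hu, disp]; group
  have d_c : (c * d) ^ 4 = z := by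
    rcases h.sq_cases (hdo.disp_mem h hci.1) with e | e
    · exfalso
      rcases h.inv_comm hci (hdo.disp_mem h hci.1) e (hdo.comm_disp h hci.1 e) with e' | e' | e' | e'
      · apply hncd
        rw [← hu] at e'
        rw [e', mul_one] at hucd
        show c * d = d * c
        calc c * d = d * c * d * d := by rw [hucd]
          _ = d * c := by rw [mul_assoc, d_sq, mul_one]
      · apply nbcz
        rw [← hu] at e'
        rw [e'] at hucd
        refine hinj ?_
        rw [map_pow, map_mul, map_mul, map_one, ← hb, ← hc, hψz, ← hucd]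
        have hdb : b = d * b * d⁻¹ := by rw [d_b.eq, mul_inv_cancel_right]
        rw [show b * (d * c * d) = d * (b * c) * d⁻¹ by
          nth_rewrite 1 [hdb]; rw [hdi]
          calc d * b * d * (d * c * d) = d * b * (d * d) * c * d := by group
            _ = _ := by rw [d_sq]; group]
        rw [conj_pow, hb, hc, ← map_mul, ← map_pow, g12, map_one]; group
      · rw [← hu] at e'
        rw [e', hc2] at hucd
        refine hne n2 (?_ : c = 1)
        calc c = (d * d) * c * (d * d) := by rw [d_sq]; group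
          _ = d * (d * c * d) * d := by group
          _ = 1 := by rw [hucd, mul_one, d_sq]
      · rw [← hu] at e'
        rw [e', show c * (z * c) = z by rw [← mul_assoc, ← hzc.eq, mul_assoc, hc2, mul_one]] at hucd
        refine hcz ?_
        calc c = (d * d) * c * (d * d) := by rw [d_sq]; group
          _ = d * (d * c * d) * d := by group
          _ = z := by rw [hucd, ← hj.eq, mul_assoc, d_sq, mul_one]
    · rw [← hu, hu', ← pow_two, ← pow_mul] at e; exact e
  exact ⟨M, L, ψ, x, d, D, ⟨V, T, N⟩, hinj, hrange, hψz, hxL, hx, d_sq, hj.symm, d_b, d_c, d_t, d_x⟩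

end Cfsg.Agent.J2Uniq57
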