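import Cfsg.Agent.J2Order38.Outer
import Cfsg.Agent.S0215

/-!
In a simple group with an involution centralizer of Hall-Janko shape, the involution is not weakly
closed in the extraspecial subgroup.
-/

set_option autoImplicit false

namespace Cfsg.Agent.J2Uniq57

open Cfsg.Agent.J2Order38

theorem a5_four : ∀ a : alternatingGroup (Fin 5), a ^ 4 = 1 → a * a = 1 := by
  set_option maxRecDepth 100000 in decide +kernel

variable {G : Type*} [Group G]

/-- The centralizer data before the fusion is known. -/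
structure Pre (z : G) (Q : Subgroup G) : Prop where
  setup : LargeExtraspecial.Setup Q z
  card : Nat.card Q = 32
  quot : ∃ π : Subgroup.centralizer ({z} : Set G) →* alternatingGroup (Fin 5),
    Function.Surjective π ∧ ∀ h, π h = 1 ↔ (h : G) ∈ Q
  small : ∀ E : Subgroup G, E ≤ Q → (∀ x ∈ E, x * x = 1) → Nat.card E ≤ 4

namespace Pre

variable [Finite G] {z : G} {Q : Subgroup G}

theorem sq_cases (h : Pre z Q) {x : G} (hx : x ∈ Q) : x * x = 1 ∨ x * x = z :=
  h.setup.zpowers_cases (h.setup.sq_mem hx)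

theorem conj_mem (h : Pre z Q) {c q : G} (hc : Commute z c) (hq : q ∈ Q) : c * q * c⁻¹ ∈ Q :=
  (Subgroup.mem_normalizer_iff.mp
    (h.setup.centralizer_le (Subgroup.mem_centralizer_singleton_iff.mpr hc.eq.symm)) q).mp hq

/-- Weak closure. -/
def Closed (z : G) (Q : Subgroup G) : Prop := ∀ g : G, g * z * g⁻¹ ∈ Q → g * z * g⁻¹ = z

/-- Elements of `Q` that commute with an outer conjugate of `z` square to one. -/
theorem cent_sq (h : Pre z Q) (hcl : Closed z Q) {g q : G} (hg : g * z * g⁻¹ ∉ Q) (hq : q ∈ Q)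
    (hc : Commute q (g * z * g⁻¹)) : q * q = 1 := by
  rcases h.sq_cases hq with e | e
  · exact e
  exfalso
  obtain ⟨π, -, hπ⟩ := h.quot
  have hm : g⁻¹ * q * g ∈ Subgroup.centralizer ({z} : Set G) := by
    rw [Subgroup.mem_centralizer_singleton_iff]
    calc g⁻¹ * q * g * z = g⁻¹ * (q * (g * z * g⁻¹)) * g := by group
      _ = g⁻¹ * ((g * z * g⁻¹) * q) * g := by rw [hc.eq]
      _ = z * (g⁻¹ * q * g) := by group
  have h2 : ((⟨_, hm⟩ : Subgroup.centralizer ({z} : Set G)) *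
      ⟨_, hm⟩ : Subgroup.centralizer ({z} : Set G)).1 = g⁻¹ * z * g := by
    show g⁻¹ * q * g * (g⁻¹ * q * g) = _
    rw [← e]; group
  have h4 : (⟨_, hm⟩ : Subgroup.centralizer ({z} : Set G)) ^ 4 = 1 := by
    refine Subtype.ext ?_
    rw [show (4 : ℕ) = 2 * 2 from rfl, pow_mul, pow_two, pow_two, Subgroup.coe_mul, h2]
    calc g⁻¹ * z * g * (g⁻¹ * z * g) = g⁻¹ * (z * z) * g := by group
      _ = _ := by rw [h.setup.z_mul_self]; simp
  have h1 := a5_four (π ⟨_, hm⟩) (by rw [← map_pow, h4, map_one])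
  rw [← map_mul, hπ, h2] at h1
  have := hcl g⁻¹ (by rwa [inv_inv])
  rw [inv_inv] at this
  refine hg ?_
  have : g * z * g⁻¹ = z := by
    calc g * z * g⁻¹ = g * (g⁻¹ * z * g) * g⁻¹ := by rw [this]
      _ = z := by group
  rw [this]; exact h.setup.z_mem

/-- The centralizer of an outer conjugate in `Q` and the inverted elements. -/
theorem outer_facts (h : Pre z Q) (hcl : Closed z Q) {u : G} (hzu : Commute z u) (huQ : u ∉ Q)
    (hu : IsConj z u) :
    (∃ q ∈ Q, Commute q u ∧ q * q = 1 ∧ q ≠ 1 ∧ q ≠ z) ∧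
      ∀ q ∈ Q, u * q * (u * q) = 1 → IsConj u (u * q) := by
  classical
  obtain ⟨g, rfl⟩ := isConj_iff.mp hu
  set u := g * z * g⁻¹ with hud
  have hu2 : u * u = 1 := by
    rw [hud, show g * z * g⁻¹ * (g * z * g⁻¹) = g * (z * z) * g⁻¹ by group, h.setup.z_mul_self]
    group
  have hui : u⁻¹ = u := inv_eq_of_mul_eq_one_right hu2
  letI := Fintype.ofFinite G
  set F : Subgroup G := Q ⊓ Subgroup.centralizer ({u} : Set G) with hF
  have hFm : ∀ y, y ∈ F ↔ y ∈ Q ∧ Commute y u := fun y => by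
    rw [hF, Subgroup.mem_inf, Subgroup.mem_centralizer_singleton_iff]; rfl
  have hF4 : Nat.card F ≤ 4 := h.small F inf_le_left fun x hx =>
    h.cent_sq hcl huQ ((hFm x).mp hx).1 ((hFm x).mp hx).2
  let f : G → G := fun y => disp u y
  let Qf : Finset G := Finset.univ.filter fun y => y ∈ Q
  let Ff : Finset G := Finset.univ.filter fun y => y ∈ F
  let I : Finset G := Qf.filter fun y => u * y * u = y⁻¹
  let P : Finset G := Qf.filter fun y => f y ∈ ({1, z} : Finset G)
  have hFc : Ff.card = Nat.card F := by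
    rw [Nat.card_eq_fintype_card, Fintype.card_subtype]
  have hfib : ∀ (s : Finset G), s ⊆ Qf → ∀ d ∈ s.image f, (s.filter fun y => f y = d).card ≤ Ff.card := by
    intro s hs d hd
    obtain ⟨y0, hy0, rfl⟩ := Finset.mem_image.mp hd
    refine Finset.card_le_card_of_injOn (fun y => y * y0⁻¹) ?_ ?_
    · intro y hy
      obtain ⟨hy, hye⟩ := Finset.mem_filter.mp (Finset.mem_coe.mp hy)
      refine Finset.mem_coe.mpr (Finset.mem_filter.mpr ⟨Finset.mem_univ _, (hFm _).mpr ⟨mul_mem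
        (Finset.mem_filter.mp (hs hy)).2 (inv_mem (Finset.mem_filter.mp (hs hy0)).2), ?_⟩⟩)
      have e : y⁻¹ * (u * y * u) = y0⁻¹ * (u * y0 * u) := hye
      show y * y0⁻¹ * u = u * (y * y0⁻¹)
      calc y * y0⁻¹ * u = y * (y0⁻¹ * (u * y0 * u)) * (u⁻¹ * y0⁻¹ * u⁻¹ * u) := by group
        _ = y * (y⁻¹ * (u * y * u)) * (u⁻¹ * y0⁻¹ * u⁻¹ * u) := by rw [e]
        _ = u * (y * y0⁻¹) := by group
    · intro a _ b _ e; exact mul_right_cancel e
  have hdQ : ∀ y ∈ Q, f y ∈ Q := fun y hy => mul_mem (inv_mem hy) (by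
    have := h.conj_mem hzu hy; rwa [hui] at this)
  have hIm : Qf.image f ⊆ I := by
    intro d hd
    obtain ⟨y, hy, rfl⟩ := Finset.mem_image.mp hd
    refine Finset.mem_filter.mpr ⟨Finset.mem_filter.mpr ⟨Finset.mem_univ _,
      hdQ y (Finset.mem_filter.mp hy).2⟩, ?_⟩
    show u * (y⁻¹ * (u * y * u)) * u = (y⁻¹ * (u * y * u))⁻¹
    calc u * (y⁻¹ * (u * y * u)) * u = u * y⁻¹ * u * y * (u * u) := by group
      _ = (y⁻¹ * (u⁻¹ * y * u⁻¹))⁻¹ := by rw [hu2]; group
      _ = _ := by rw [hui]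
  have hIP : I ⊆ P := by
    intro y hy
    obtain ⟨hy, hye⟩ := Finset.mem_filter.mp hy
    refine Finset.mem_filter.mpr ⟨hy, ?_⟩
    have : f y = (y * y)⁻¹ := by show y⁻¹ * (u * y * u) = _; rw [hye, mul_inv_rev]
    rw [this]
    rcases h.sq_cases (Finset.mem_filter.mp hy).2 with e | e <;> rw [e] <;> simp [h.setup.z_inv]
  have hP : P.card ≤ Ff.card * 2 := by
    refine (Finset.card_le_mul_card_image P _ (hfib P (Finset.filter_subset _ _))).trans
      (Nat.mul_le_mul_left _ ((Finset.card_le_card ?_).trans (Finset.card_le_two (a := (1 : G)) (b := z))))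
    intro d hd
    obtain ⟨y, hy, rfl⟩ := Finset.mem_image.mp hd
    exact (Finset.mem_filter.mp hy).2
  have hQ : Qf.card ≤ Ff.card * (Qf.image f).card :=
    Finset.card_le_mul_card_image Qf _ (hfib Qf le_rfl)
  have hQc : Qf.card = 32 := by
    rw [← h.card, Nat.card_eq_fintype_card, Fintype.card_subtype]
  have h1 := Finset.card_le_card hIm
  have h2 := Finset.card_le_card hIP
  rw [hFc] at hP hQ
  rw [hQc] at hQ
  have hFeq : Nat.card F = 4 := by
    by_contra hne
    have := Nat.mul_le_mul (show Nat.card F ≤ 3 by omega) (show (Qf.image f).card ≤ 7 by omega)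
    omega
  have hImI : Qf.image f = I := Finset.eq_of_subset_of_card_le hIm (by rw [hFeq] at hQ hP; omega)
  refine ⟨?_, fun q hq he => ?_⟩
  · obtain ⟨q, hqF, hqz⟩ : ∃ q ∈ F, q ∉ Subgroup.zpowers z := by
      by_contra hno
      push Not at hno
      have := Nat.le_of_dvd Nat.card_pos (Subgroup.card_dvd_of_le (show F ≤ Subgroup.zpowers z from hno))
      rw [hFeq, Nat.card_zpowers, h.setup.orderOf_z] at this; omega
    exact ⟨q, ((hFm q).mp hqF).1, ((hFm q).mp hqF).2, h.cent_sq hcl huQ ((hFm q).mp hqF).1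
      ((hFm q).mp hqF).2, fun e => hqz (e ▸ one_mem _), fun e => hqz (e ▸ Subgroup.mem_zpowers z)⟩
  · have hqI : q ∈ I := Finset.mem_filter.mpr ⟨Finset.mem_filter.mpr ⟨Finset.mem_univ _, hq⟩, by
      calc u * q * u = u * q * (u * q) * q⁻¹ := by group
        _ = q⁻¹ := by rw [he, one_mul]⟩
    rw [← hImI] at hqI
    obtain ⟨y, -, rfl⟩ := Finset.mem_image.mp hqI
    refine isConj_iff.mpr ⟨(y * u)⁻¹, ?_⟩
    show _ = u * (y⁻¹ * (u * y * u))
    calc (y * u)⁻¹ * u * (y * u)⁻¹⁻¹ = u⁻¹ * (y⁻¹ * (u * y * u)) := by group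
      _ = _ := by rw [hui]

/-- `z` is not weakly closed in `Q`. -/
theorem nwc [IsSimpleGroup G] (h : Pre z Q) : ∃ u ∈ Q, u ≠ z ∧ IsConj z u := by
  by_contra hno
  have hcl : Closed z Q := fun g hg => by
    by_contra hne
    exact hno ⟨_, hg, hne, isConj_iff.mpr ⟨g, rfl⟩⟩
  obtain ⟨π, hπs, hπ⟩ := h.quot
  haveI : Fact (Nat.Prime 2) := ⟨Nat.prime_two⟩
  have hQp : IsPGroup 2 Q := IsPGroup.of_card (n := 5) (by rw [h.card]; norm_num)
  obtain ⟨S, hS⟩ := hQp.exists_le_sylow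
  have hSz : ∀ s ∈ (S : Subgroup G), Commute z s := by
    haveI : Nontrivial (S : Subgroup G) :=
      ⟨⟨⟨z, hS h.setup.z_mem⟩, 1, fun e => h.setup.z_ne_one (congrArg Subtype.val e)⟩⟩
    haveI : Nontrivial (Subgroup.center (S : Subgroup G)) := S.2.center_nontrivial
    obtain ⟨⟨c, hc⟩, hne⟩ := exists_ne (1 : Subgroup.center (S : Subgroup G))
    have hcc : ((c : (S : Subgroup G)) : G) ∈ Subgroup.centralizer (Q : Set G) :=
      Subgroup.mem_centralizer_iff.mpr fun q hq =>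
        congrArg Subtype.val (Subgroup.mem_center_iff.mp hc ⟨q, hS hq⟩)
    rw [h.setup.centralizer_eq] at hcc
    intro s hs
    rcases h.setup.zpowers_cases hcc with e | e
    · exact absurd (Subtype.ext (Subtype.ext e)) hne
    · rw [← e]
      exact (congrArg Subtype.val (Subgroup.mem_center_iff.mp hc ⟨s, hs⟩)).symm
  have hiso : ∀ g : G, g * z * g⁻¹ ∈ S → g * z * g⁻¹ = z := by
    intro g hgS
    by_contra hne
    have hguQ : g * z * g⁻¹ ∉ Q := fun hm => hne (hcl g hm)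
    have hzu := hSz _ hgS
    obtain ⟨⟨q, hq, hqu, hq2, hq1, hqz⟩, -⟩ := h.outer_facts hcl hzu hguQ (isConj_iff.mpr ⟨g, rfl⟩)
    set u := g * z * g⁻¹ with hud
    -- involutions of `C(z)` outside `Q` are conjugate to `z`
    have hall : ∀ x : G, Commute z x → x ∉ Q → x * x = 1 → IsConj z x := by
      intro x hzx hxQ hx2
      let H := Subgroup.centralizer ({z} : Set G)
      have hmem : ∀ {y : G}, Commute z y → y ∈ H := fun hy =>
        Subgroup.mem_centralizer_singleton_iff.mpr hy.eq.symm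
      have hu2 : u * u = 1 := by
        rw [hud, show g * z * g⁻¹ * (g * z * g⁻¹) = g * (z * z) * g⁻¹ by group, h.setup.z_mul_self]
        group
      have key : ∀ {y : G} (hy : Commute z y), y ∉ Q → y * y = 1 →
          π ⟨y, hmem hy⟩ * π ⟨y, hmem hy⟩ = 1 ∧ π ⟨y, hmem hy⟩ ≠ 1 := fun {y} hy hyQ hy2 =>
        ⟨by rw [← map_mul, show (⟨y, hmem hy⟩ : H) * ⟨y, hmem hy⟩ = 1 from Subtype.ext hy2, map_one],
          fun e => hyQ (show y ∈ Q from (hπ ⟨y, hmem hy⟩).mp e)⟩
      obtain ⟨a, ha⟩ := A5.exists_conj _ (key hzu hguQ hu2).1 (key hzu hguQ hu2).2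
      obtain ⟨b, hb⟩ := A5.exists_conj _ (key hzx hxQ hx2).1 (key hzx hxQ hx2).2
      obtain ⟨⟨c, hc⟩, hcc⟩ := hπs (b * a⁻¹)
      have hzc : Commute z c := (Subgroup.mem_centralizer_singleton_iff.mp hc).symm
      have hzw : Commute z (c * u * c⁻¹) := (hzc.mul_right hzu).mul_right hzc.inv_right
      have hwQ : c * u * c⁻¹ ∉ Q := fun hm => hguQ (by
        have := h.conj_mem hzc.inv_right hm
        rwa [inv_inv, show c⁻¹ * (c * u * c⁻¹) * c = u by group] at this)
      have hw2 : c * u * c⁻¹ * (c * u * c⁻¹) = 1 := by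
        rw [show c * u * c⁻¹ * (c * u * c⁻¹) = c * (u * u) * c⁻¹ by group, hu2]; group
      have hwc : IsConj z (c * u * c⁻¹) :=
        (isConj_iff.mpr ⟨g, rfl⟩ : IsConj z u).trans (isConj_iff.mpr ⟨c, rfl⟩)
      have hqq : (c * u * c⁻¹) * x ∈ Q := by
        refine (hπ (⟨_, hmem hzw⟩ * ⟨x, hmem hzx⟩)).mp ?_
        rw [map_mul, show (⟨c * u * c⁻¹, hmem hzw⟩ : H) = ⟨c, hc⟩ * ⟨u, hmem hzu⟩ * ⟨c, hc⟩⁻¹
          from Subtype.ext rfl, map_mul, map_mul, map_inv, hcc, ← ha, ← hb]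
        rw [show b * a⁻¹ * (a * A5.a0 * a⁻¹) * (b * a⁻¹)⁻¹ * (b * A5.a0 * b⁻¹)
          = b * (A5.a0 * A5.a0) * b⁻¹ by group, A5.a0_sq]
        group
      have e := (h.outer_facts hcl hzw hwQ hwc).2 _ hqq (by
        rw [← mul_assoc (c * u * c⁻¹) (c * u * c⁻¹) x, hw2, one_mul, hx2])
      rw [← mul_assoc (c * u * c⁻¹) (c * u * c⁻¹) x, hw2, one_mul] at e
      exact hwc.trans e
    -- so `q` and `z * q` lie in the group of `u`
    have hin : ∀ x ∈ Q, x * x = 1 → x ≠ z → Commute x u → g⁻¹ * x * g ∈ Q := by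
      intro x hx hx2 hxz hxu
      by_contra hx'
      have hzx : Commute z (g⁻¹ * x * g) := by
        show z * (g⁻¹ * x * g) = g⁻¹ * x * g * z
        calc z * (g⁻¹ * x * g) = g⁻¹ * (u * x) * g := by rw [hud]; group
          _ = g⁻¹ * (x * u) * g := by rw [hxu.eq]
          _ = g⁻¹ * x * g * z := by rw [hud]; group
      have e := hall _ hzx hx' (by
        rw [show g⁻¹ * x * g * (g⁻¹ * x * g) = g⁻¹ * (x * x) * g by group, hx2]; group)
      obtain ⟨k, hk⟩ := isConj_iff.mp (e.trans (isConj_iff.mpr ⟨g, rfl⟩))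
      have hk' : k * z * k⁻¹ = x := hk.trans (by group)
      exact hxz (hk' ▸ hcl k (hk'.symm ▸ hx))
    have hzq : Commute z q := h.setup.z_commute hq
    have h1 := hin q hq hq2 hqz hqu
    have h2 := hin (z * q) (mul_mem h.setup.z_mem hq)
      (by rw [hzq.symm.mul_mul_mul_comm, h.setup.z_mul_self, hq2, one_mul])
      (fun e => hq1 (mul_eq_left.mp e)) (hzu.mul_left hqu)
    have h3 : g⁻¹ * z * g ∈ Q := by
      have := mul_mem h2 (inv_mem h1)
      rwa [show g⁻¹ * (z * q) * g * (g⁻¹ * q * g)⁻¹ = g⁻¹ * z * g by group] at this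
    have h4 := hcl g⁻¹ (by rwa [inv_inv])
    rw [inv_inv] at h4
    refine hne ?_
    calc g * z * g⁻¹ = g * (g⁻¹ * z * g) * g⁻¹ := by rw [h4]
      _ = z := by group
  obtain ⟨N, hN, hNodd, hNc⟩ :=
    S0215.result S z h.setup.orderOf_z (hS h.setup.z_mem) hiso
  rcases hN.eq_bot_or_eq_top with e | e
  · subst e
    have htop : Subgroup.centralizer ({z} : Set G) = ⊤ := by
      rw [eq_top_iff]
      intro x _
      rw [Subgroup.mem_centralizer_singleton_iff]
      have := Subgroup.mem_bot.mp (hNc x)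
      rw [mul_inv_eq_one] at this
      exact (mul_inv_eq_iff_eq_mul.mp this).symm
    have hQn : Q.Normal := ⟨fun q hq c => h.conj_mem (Subgroup.mem_centralizer_singleton_iff.mp
      (htop ▸ Subgroup.mem_top c : c ∈ Subgroup.centralizer ({z} : Set G))).symm hq⟩
    rcases hQn.eq_bot_or_eq_top with e | e
    · exact h.setup.z_ne_one (Subgroup.mem_bot.mp (e ▸ h.setup.z_mem))
    · obtain ⟨x, hx⟩ := hπs A5.a0
      rw [(hπ x).mpr (e ▸ Subgroup.mem_top _)] at hx
      exact A5.a0_ne hx.symm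
  · rw [e, Subgroup.card_top] at hNodd
    have : 2 ∣ Nat.card G := h.setup.orderOf_z ▸ orderOf_dvd_natCard z
    exact (Nat.not_even_iff_odd.mpr hNodd) (even_iff_two_dvd.mpr this)

theorem hj [IsSimpleGroup G] (h : Pre z Q) : HJ z Q := ⟨h.setup, h.card, h.quot, h.nwc⟩

end Pre

end Cfsg.Agent.J2Uniq57
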